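import Cfsg.Agent.H121.Chr
import Cfsg.Agent.LieRecognition.ReeThree
set_option linter.all false

/-!
# The smallest degree of a nontrivial complex representation of a small Ree group

`main`: for a simple group with the Bruhat normal form of `²G₂(q)`, all of whose involutions are conjugate, every
nontrivial complex representation has degree at least `q² - q + 1`.

The characters `(μ, ψ)`, `ψ ≠ 1`, of the abelian group of all `U 0 u v` are conjugate in the Borel subgroup, so the degree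
is at least `q (q - 1)`; if there is equality, then the character vanishes on the involution `h (-1)`, hence on a Klein
four-group minus the identity, but `4` does not divide `q (q - 1)`.
-/

set_option autoImplicit false
set_option linter.unusedSectionVars false

namespace Cfsg.Agent.H121.ReeMin

open Module Cfsg.Agent.H121.Wt Cfsg.Agent.H121.Chr
open Cfsg.Agent.LieRecognition Cfsg.Agent.LieRecognition.ReeAbs

variable {K : Type*} [Field K] [Fintype K] {G : Type*} [Group G] {m : ℕ}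
  {U : K → K → K → G} {h : Kˣ → G} {n : G} {V : Type*} [AddCommGroup V] [Module ℂ V] [FiniteDimensional ℂ V]
  (ρ : Representation ℂ G V)

/-- the abelian subgroup -/
def xx (U : K → K → K → G) (p : K × K) : G := U 0 p.1 p.2

theorem xx_add (D : Data m U h n) (p r : K × K) : xx U (p + r) = xx U p * xx U r := by
  rw [xx, xx, xx, D.U_mul]
  simp [zero_pow (M₀ := K) (n := 3 ^ (m + 1)) (by positivity)]

/-- the operators -/
def R (ρ : Representation ℂ G V) (U : K → K → K → G) (p : K × K) : Module.End ℂ V := ρ (xx U p)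

theorem isAct (D : Data m U h n) : IsAct (R ρ U) := isAct_of ρ (xx_add D)

theorem shift (D : Data m U h n) (t : K) (p : K × K) :
    U t 0 0 * xx U p = xx U (p.1, p.2 + p.1 * t) * U t 0 0 := by
  rw [xx, xx, D.U_mul, D.U_mul]
  simp [zero_pow (M₀ := K) (n := 3 ^ (m + 1)) (by positivity)]

theorem torus (D : Data m U h n) (a : Kˣ) (p : K × K) :
    h a * xx U p = xx U ((a : K) ^ (3 ^ (m + 1) + 3) * p.1, (a : K) ^ (2 * 3 ^ (m + 1) + 3) * p.2) * h a := by
  rw [xx, xx, D.h_U, mul_zero]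

theorem bij_shift (t : K) : Function.Bijective fun p : K × K => (p.1, p.2 + p.1 * t) := by
  rw [Function.bijective_iff_has_inverse]
  refine ⟨fun p => (p.1, p.2 - p.1 * t), fun p => ?_, fun p => ?_⟩ <;> simp

theorem bij_torus (a b : Kˣ) : Function.Bijective fun p : K × K => ((a : K) * p.1, (b : K) * p.2) := by
  rw [Function.bijective_iff_has_inverse]
  refine ⟨fun p => ((a⁻¹ : Kˣ) * p.1, (b⁻¹ : Kˣ) * p.2), fun p => ?_, fun p => ?_⟩ <;> simp

theorem exists_pow_c (hK : Fintype.card K = 3 ^ (2 * m + 1)) (b : Kˣ) : ∃ a : Kˣ, a ^ (2 * 3 ^ (m + 1) + 3) = b := by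
  have hinj : Function.Injective fun a : Kˣ => a ^ (2 * 3 ^ (m + 1) + 3) := by
    intro a b hab
    have h1 : (a * b⁻¹) ^ (2 * 3 ^ (m + 1) + 3) = 1 := by
      rw [mul_pow, inv_pow]
      exact mul_inv_eq_one.mpr hab
    exact mul_inv_eq_one.mp (ReeThree.one_of_pow_c hK _ h1)
  exact (Finite.injective_iff_surjective.mp hinj) b

/-- all weights which are nontrivial on the centre have the same multiplicity -/
theorem finrank_eq (D : Data m U h n) (hK : Fintype.card K = 3 ^ (2 * m + 1)) {μ ψ μ' ψ' : AddChar K ℂ} (hψ : ψ ≠ 1)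
    (hψ' : ψ' ≠ 1) : finrank ℂ (wt (R ρ U) (pc μ ψ)) = finrank ℂ (wt (R ρ U) (pc μ' ψ')) := by
  -- first the torus
  obtain ⟨t, ht⟩ := exists_mulShift hψ' ψ
  have ht0 : t ≠ 0 := by
    rintro rfl
    apply hψ
    apply DFunLike.ext
    intro x
    rw [ht, zero_mul, AddChar.map_zero_eq_one, AddChar.one_apply]
  obtain ⟨a, ha⟩ := exists_pow_c hK (Units.mk0 t ht0)
  have ha' : (a : K) ^ (2 * 3 ^ (m + 1) + 3) = t := by
    rw [← Units.val_pow_eq_pow_val, ha, Units.val_mk0]
  -- some `μ''`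
  let b : Kˣ := a ^ (3 ^ (m + 1) + 3)
  let μ'' : AddChar K ℂ := AddChar.mulShift μ ((b⁻¹ : Kˣ) : K)
  have h1 : finrank ℂ (wt (R ρ U) (pc μ ψ)) = finrank ℂ (wt (R ρ U) (pc μ'' ψ')) := by
    refine finrank_wt_eq ρ (x := xx U) (g := h a) (torus D a) ?_ ?_
    · have := bij_torus (a ^ (3 ^ (m + 1) + 3)) (a ^ (2 * 3 ^ (m + 1) + 3))
      simpa using this
    · intro p
      have e1 : μ'' ((a : K) ^ (3 ^ (m + 1) + 3) * p.1) = μ p.1 := by
        have e2 : (b : K) = (a : K) ^ (3 ^ (m + 1) + 3) := Units.val_pow_eq_pow_val _ _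
        rw [← e2]
        simp only [μ'', AddChar.mulShift_apply]
        rw [Units.inv_mul_cancel_left]
      rw [pc_apply, pc_apply, ha', ht, e1]
  rw [h1]
  -- now the shift
  have hd : ∃ t : K, ∀ x, (μ'' * μ'⁻¹) x = ψ' (t * x) := exists_mulShift hψ' _
  obtain ⟨t, ht⟩ := hd
  refine finrank_wt_eq ρ (x := xx U) (g := U t 0 0) (shift D t) (bij_shift t) ?_
  intro p
  rw [pc_apply, pc_apply]
  have h2 := ht p.1
  rw [AddChar.mul_apply, AddChar.inv_apply'] at h2
  have h3 : μ' p.1 ≠ 0 := ne_zero' _ _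
  change μ' p.1 * ψ' (p.2 + p.1 * t) = _
  rw [AddChar.map_add_eq_mul, mul_comm p.1 t, ← h2]
  field_simp

/-- the weights which are nontrivial on the centre -/
noncomputable def S (K : Type*) [Field K] [Fintype K] : Finset (AddChar (K × K) ℂ) :=
  letI := Classical.decEq (AddChar (K × K) ℂ)
  letI := Classical.decEq (AddChar K ℂ)
  (Finset.univ ×ˢ (Finset.univ.erase (1 : AddChar K ℂ))).map (pcEquiv (A := K) (B := K)).toEmbedding

theorem mem_S (χ : AddChar (K × K) ℂ) : χ ∈ S K ↔ sc χ ≠ 1 := by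
  classical
  rw [S, Finset.mem_map_equiv]
  simp [pcEquiv]

theorem card_S : (S K).card = Fintype.card K * (Fintype.card K - 1) := by
  classical
  rw [S, Finset.card_map, Finset.card_product, Finset.card_univ, Finset.card_erase_of_mem (Finset.mem_univ _),
    Finset.card_univ, card_addChar]

theorem sq_ne_one (hK : Fintype.card K = 3 ^ (2 * m + 1)) {ψ : AddChar K ℂ} (h1 : ∀ v, ψ (-v) = ψ v) : ψ = 1 := by
  have h3 : (3 : K) = 0 := by
    have := charP_three hK
    have := CharP.cast_eq_zero K 3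
    simpa using this
  apply DFunLike.ext
  intro v
  have h2 : v = -(v) - v := by linear_combination h3 * v
  rw [h2, sub_eq_add_neg, AddChar.map_add_eq_mul, h1]
  have h4 : ψ v * ψ v * ψ v = 1 := by
    rw [← AddChar.map_add_eq_mul, ← AddChar.map_add_eq_mul]
    rw [show v + v + v = 0 by linear_combination h3 * v, AddChar.map_zero_eq_one]
  have h5 : ψ v * ψ v = 1 := by
    have := h1 v
    rw [AddChar.map_neg_eq_inv] at this
    rw [← this]
    rw [inv_mul_eq_one₀ (ne_zero' _ _)]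
    rw [this]
  rw [AddChar.one_apply]
  exact h5

theorem main [IsSimpleGroup G] (D : Data m U h n) (hK : Fintype.card K = 3 ^ (2 * m + 1))
    (hconj : ∀ x : G, x ≠ 1 → x * x = 1 → IsConj (h (-1)) x) (hρ : ∃ g, ρ g ≠ 1) :
    (3 ^ (2 * m + 1)) ^ 2 - 3 ^ (2 * m + 1) + 1 ≤ finrank ℂ V := by
  classical
  set q := 3 ^ (2 * m + 1) with hq
  have hq8 : q % 8 = 3 := three_pow_odd_mod m
  have hact := isAct ρ D
  -- a weight which is nontrivial on the centre
  have h001 : ρ (U 0 0 1) ≠ 1 := by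
    apply faithful ρ hρ
    intro h0
    have h2 : U 0 0 1 * h 1 = U 0 0 0 * h 1 := by rw [h0, D.U_zero]
    exact one_ne_zero (D.inj₁ _ _ _ _ _ _ _ _ h2).2.2.1
  obtain ⟨χ₀, hχ₀, hχ₁⟩ := exists_wt hact (a := ((0 : K), (1 : K))) h001
  have hψ₀ : sc χ₀ ≠ 1 := by
    intro h0
    apply hχ₁
    rw [← sc_apply, h0, AddChar.one_apply]
  set r := finrank ℂ (wt (R ρ U) χ₀) with hr
  have hrpos : 1 ≤ r := by
    rw [Nat.one_le_iff_ne_zero]
    intro h0
    exact hχ₀ (Submodule.finrank_eq_zero.mp h0)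
  have hall : ∀ χ ∈ S K, finrank ℂ (wt (R ρ U) χ) = r := by
    intro χ hχ
    rw [mem_S] at hχ
    rw [hr, ← pc_fc_sc χ, ← pc_fc_sc χ₀]
    exact finrank_eq ρ D hK hχ hψ₀
  have hle := mul_card_le hact (S K) r (fun χ hχ => (hall χ hχ).ge)
  rw [card_S, hK] at hle
  have hq3 : 3 ≤ q := by omega
  obtain ⟨s, hs⟩ : ∃ s, q = s + 3 := ⟨q - 3, by omega⟩
  by_contra hcon
  push Not at hcon
  have hsq : q ^ 2 - q = q * (q - 1) := by
    rw [Nat.mul_sub, mul_one, pow_two]
  rw [hsq] at hcon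
  have hpos : 0 < q * (q - 1) := by
    apply Nat.mul_pos <;> omega
  have hr1 : r = 1 := by
    by_contra hr1
    have hr2 : 2 ≤ r := by omega
    have : 2 * (q * (q - 1)) ≤ r * (q * (q - 1)) := Nat.mul_le_mul_right _ hr2
    omega
  rw [hr1, one_mul] at hle
  have hk : finrank ℂ V = q * (q - 1) := by omega
  -- the other weights do not occur
  have hzero : ∀ χ, χ ∉ S K → wt (R ρ U) χ = ⊥ := by
    intro χ hχ
    apply Submodule.finrank_eq_zero.mp
    have h1 := sum_finrank hact
    rw [← Finset.sum_add_sum_compl (S K)] at h1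
    rw [Finset.sum_congr rfl hall, Finset.sum_const, card_S, hK, hr1, smul_eq_mul, mul_one, hk] at h1
    have h2 : ∑ χ ∈ (S K)ᶜ, finrank ℂ (wt (R ρ U) χ) = 0 := by omega
    exact (Finset.sum_eq_zero_iff.mp h2) χ (Finset.mem_compl.mpr hχ)
  -- the trace of the involution
  have htr : LinearMap.trace ℂ V (ρ (h (-1))) = 0 := by
    rw [trace_eq_sum hact]
    apply Finset.sum_eq_zero
    intro χ _
    by_cases hχ : χ ∈ S K
    · have hψ := (mem_S χ).mp hχ
      have hne : χ ≠ pc (fc χ) (sc χ)⁻¹ := by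
        intro he
        apply hψ
        have h1 : sc χ = (sc χ)⁻¹ := by
          conv_lhs => rw [he]
          rw [sc_pc]
        apply sq_ne_one hK
        intro v
        conv_rhs => rw [h1]
        rw [AddChar.inv_apply]
      refine trace_mul_pr_of_ne hact hne fun v hv => ?_
      refine map_wt ρ (x := xx U) (g := h (-1)) (f := fun p => (p.1, -p.2)) ?_ ?_ ?_ hv
      · intro p
        rw [xx, D.inv_mul_U, neg_zero, xx]
      · intro p
        exact ⟨(p.1, -p.2), by simp⟩
      · intro p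
        rw [pc_apply, fc_apply, AddChar.inv_apply, neg_neg, sc_apply, ← AddChar.map_add_eq_mul, Prod.mk_add_mk, add_zero,
          zero_add]
    · rw [pr_eq_zero hact (hzero χ hχ), mul_zero, map_zero]
  -- the Klein four-group
  have hi1 : h (-1) ≠ 1 := D.inv_ne_one hK
  have hn1 : n ≠ 1 := D.n_ne_one
  have hin1 : h (-1) * n ≠ 1 := by
    intro h0
    have h1 : U 0 0 0 * h (-1) = U 0 0 0 * h 1 * n * U 0 0 0 := by
      rw [D.U_zero, D.h_one, one_mul, mul_one, mul_one, one_mul]
      have := congrArg (· * n) h0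
      simpa [mul_assoc, D.n_n] using this
    exact D.ne _ _ _ _ _ _ _ _ _ _ _ h1
  have hcom : h (-1) * n = n * h (-1) := D.inv_mul_n
  have hsq' : h (-1) * n * (h (-1) * n) = 1 := by
    rw [← mul_assoc, mul_assoc (h (-1)) n, ← hcom, ← mul_assoc, D.inv_sq, one_mul, D.n_n]
  have h4 : 4 ∣ finrank ℂ V := by
    refine four_dvd ρ D.inv_sq D.n_n hcom htr ?_ ?_
    · rw [← trace_eq_of_isConj ρ (hconj n hn1 D.n_n), htr]
    · rw [← trace_eq_of_isConj ρ (hconj _ hin1 hsq'), htr]
  rw [hk] at h4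
  obtain ⟨c, hc⟩ : ∃ c, q = 8 * c + 3 := ⟨q / 8, by omega⟩
  rw [hc] at h4
  have h5 : (8 * c + 3) * (8 * c + 3 - 1) = 4 * (16 * c ^ 2 + 10 * c + 1) + 2 := by
    rw [show 8 * c + 3 - 1 = 8 * c + 2 by omega]
    ring
  rw [h5] at h4
  omega

end Cfsg.Agent.H121.ReeMin
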