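import Mathlib
set_option linter.all false

-- part: H121/Wt
section
/-!
# Weight spaces of a finite commuting family of operators

`R : A → Module.End ℂ V` with `A` a finite additive commutative group, `R 0 = 1`, `R (a + b) = R a * R b` (`IsAct R`).
`wt R χ` is the space of vectors on which `A` acts by the additive character `χ : AddChar A ℂ`; `pr R χ` is the
projection onto it.

* `sum_pr`: the projections add up to `1`;
* `sum_finrank`: `finrank V` is the sum of the dimensions of the weight spaces;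
* `trace_eq_sum`, `trace_mul_pr_of_ne`, `trace_mul_pr_of_smul`: computation of traces;
* `finrank_wt_le`: transport of weight spaces by an operator with a left inverse.
-/

set_option autoImplicit false
set_option linter.unusedSectionVars false

namespace Cfsg.Agent.H121.Wt

open Module

variable {A : Type*} [AddCommGroup A] {V : Type*} [AddCommGroup V] [Module ℂ V]

/-- an action of the additive group `A` by operators -/
structure IsAct (R : A → Module.End ℂ V) : Prop where
  zero : R 0 = 1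
  add : ∀ a b, R (a + b) = R a * R b

/-- the weight space of `χ` -/
def wt (R : A → Module.End ℂ V) (χ : AddChar A ℂ) : Submodule ℂ V where
  carrier := {v | ∀ a, R a v = χ a • v}
  add_mem' := by
    intro v w hv hw a
    rw [map_add, hv a, hw a, smul_add]
  zero_mem' := by
    intro a
    rw [map_zero, smul_zero]
  smul_mem' := by
    intro c v hv a
    rw [map_smul, hv a, smul_comm]

theorem mem_wt {R : A → Module.End ℂ V} {χ : AddChar A ℂ} {v : V} :
    v ∈ wt R χ ↔ ∀ a, R a v = χ a • v := Iff.rfl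

variable [Fintype A]

/-- the projection onto the weight space of `χ` -/
noncomputable def pr (R : A → Module.End ℂ V) (χ : AddChar A ℂ) : Module.End ℂ V :=
  (Fintype.card A : ℂ)⁻¹ • ∑ a, χ (-a) • R a

theorem card_ne : (Fintype.card A : ℂ) ≠ 0 := Nat.cast_ne_zero.mpr Fintype.card_ne_zero

theorem pr_apply (R : A → Module.End ℂ V) (χ : AddChar A ℂ) (v : V) :
    pr R χ v = (Fintype.card A : ℂ)⁻¹ • ∑ a, χ (-a) • R a v := by
  simp [pr]

theorem neg_mul_self (χ : AddChar A ℂ) (a : A) : χ (-a) * χ a = 1 := by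
  rw [← AddChar.map_add_eq_mul, neg_add_cancel, AddChar.map_zero_eq_one]

theorem neg_eq (χ : AddChar A ℂ) (a : A) : χ (-a) = (χ a)⁻¹ := eq_inv_of_mul_eq_one_left (neg_mul_self χ a)

theorem ne_zero' (χ : AddChar A ℂ) (a : A) : χ a ≠ 0 := by
  intro h
  have := neg_mul_self χ a
  rw [h, mul_zero] at this
  exact zero_ne_one this

variable {R : A → Module.End ℂ V}

theorem pr_mem (h : IsAct R) (χ : AddChar A ℂ) (v : V) : pr R χ v ∈ wt R χ := by
  intro b
  have e : ∀ a, R b (χ (-a) • R a v) = χ b • χ (-(b + a)) • R (b + a) v := fun a => by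
    have e1 : χ (-a) = χ b * χ (-(b + a)) := by
      rw [← AddChar.map_add_eq_mul]
      congr 1
      abel
    rw [map_smul, smul_smul, h.add, Module.End.mul_apply, e1]
  have e2 : ∑ a, R b (χ (-a) • R a v) = ∑ a, χ b • χ (-a) • R a v := by
    rw [Fintype.sum_congr _ _ e]
    exact Fintype.sum_equiv (Equiv.addLeft b) (fun a => χ b • χ (-(b + a)) • R (b + a) v)
      (fun a => χ b • χ (-a) • R a v) fun a => rfl
  rw [pr_apply, map_smul, map_sum, e2, ← Finset.smul_sum, smul_comm]

theorem sum_mul_eq [DecidableEq (AddChar A ℂ)] (χ χ' : AddChar A ℂ) :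
    ∑ a, χ (-a) * χ' a = if χ = χ' then (Fintype.card A : ℂ) else 0 := by
  have h1 : ∀ a, χ (-a) * χ' a = (χ⁻¹ * χ') a := fun a => by
    rw [AddChar.mul_apply, AddChar.inv_apply]
  rw [Fintype.sum_congr _ _ h1]
  have h2 := AddChar.sum_eq_ite (χ⁻¹ * χ')
  rw [h2]
  by_cases h : χ = χ'
  · subst h
    rw [if_pos rfl, if_pos (by rw [inv_mul_cancel]; rfl)]
  · rw [if_neg h, if_neg]
    intro h3
    apply h
    exact (inv_mul_eq_one.mp (by rw [h3]; rfl))

theorem pr_of_mem {χ : AddChar A ℂ} {v : V} (hv : v ∈ wt R χ) : pr R χ v = v := by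
  classical
  rw [pr_apply]
  have : ∀ a, χ (-a) • R a v = (1 : ℂ) • v := fun a => by
    rw [hv a, smul_smul, neg_mul_self]
  rw [Fintype.sum_congr _ _ this, Finset.sum_const, Finset.card_univ, one_smul, ← Nat.cast_smul_eq_nsmul ℂ, smul_smul,
    inv_mul_cancel₀ card_ne, one_smul]

theorem pr_of_mem_ne {χ χ' : AddChar A ℂ} (hne : χ ≠ χ') {v : V} (hv : v ∈ wt R χ') : pr R χ v = 0 := by
  classical
  rw [pr_apply]
  have : ∀ a, χ (-a) • R a v = (χ (-a) * χ' a) • v := fun a => by
    rw [hv a, smul_smul]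
  rw [Fintype.sum_congr _ _ this, ← Finset.sum_smul, sum_mul_eq, if_neg hne, zero_smul, smul_zero]

theorem pr_mul_self (h : IsAct R) (χ : AddChar A ℂ) : pr R χ * pr R χ = pr R χ := by
  ext v
  rw [Module.End.mul_apply, pr_of_mem (pr_mem h χ v)]

theorem pr_mul_ne (h : IsAct R) {χ χ' : AddChar A ℂ} (hne : χ ≠ χ') : pr R χ * pr R χ' = 0 := by
  ext v
  rw [Module.End.mul_apply, pr_of_mem_ne hne (pr_mem h χ' v), LinearMap.zero_apply]

noncomputable instance addCharFintype : Fintype (AddChar A ℂ) := Fintype.ofFinite _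

theorem sum_pr (h : IsAct R) : ∑ χ : AddChar A ℂ, pr R χ = 1 := by
  classical
  ext v
  rw [LinearMap.sum_apply, Module.End.one_apply]
  simp only [pr_apply]
  rw [← Finset.smul_sum, Finset.sum_comm]
  have : ∀ a : A, ∑ χ : AddChar A ℂ, χ (-a) • R a v = if a = 0 then (Fintype.card A : ℂ) • v else 0 := by
    intro a
    rw [← Finset.sum_smul]
    have h1 := AddChar.sum_apply_eq_ite (-a)
    have h2 : ∑ χ : AddChar A ℂ, χ (-a) = if -a = 0 then (Fintype.card A : ℂ) else 0 := by
      rw [← h1]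
    rw [h2]
    by_cases ha : a = 0
    · subst ha
      rw [if_pos neg_zero, if_pos rfl, h.zero, Module.End.one_apply]
    · rw [if_neg (by rwa [neg_eq_zero]), if_neg ha, zero_smul]
  rw [Fintype.sum_congr _ _ this, Finset.sum_ite_eq' Finset.univ (0 : A), if_pos (Finset.mem_univ _), smul_smul,
    inv_mul_cancel₀ card_ne, one_smul]

variable [FiniteDimensional ℂ V]

theorem trace_pr (h : IsAct R) (χ : AddChar A ℂ) :
    LinearMap.trace ℂ V (pr R χ) = (finrank ℂ (wt R χ) : ℂ) := by
  have : LinearMap.IsProj (wt R χ) (pr R χ) := ⟨fun v => pr_mem h χ v, fun v hv => pr_of_mem hv⟩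
  exact this.trace

/-- the dimension is the sum of the dimensions of the weight spaces -/
theorem sum_finrank (h : IsAct R) : ∑ χ : AddChar A ℂ, finrank ℂ (wt R χ) = finrank ℂ V := by
  have h1 : LinearMap.trace ℂ V (∑ χ : AddChar A ℂ, pr R χ) = (finrank ℂ V : ℂ) := by
    rw [sum_pr h]
    exact LinearMap.trace_one ℂ V
  rw [map_sum] at h1
  simp only [trace_pr h] at h1
  exact_mod_cast h1

/-- lower bound by a family of distinct weights -/
theorem mul_card_le (h : IsAct R) (S : Finset (AddChar A ℂ)) (r : ℕ)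
    (hS : ∀ χ ∈ S, r ≤ finrank ℂ (wt R χ)) : r * S.card ≤ finrank ℂ V := by
  classical
  rw [← sum_finrank h]
  calc r * S.card = ∑ χ ∈ S, r := by rw [Finset.sum_const, smul_eq_mul, mul_comm]
    _ ≤ ∑ χ ∈ S, finrank ℂ (wt R χ) := Finset.sum_le_sum hS
    _ ≤ _ := Finset.sum_le_sum_of_subset (Finset.subset_univ _)

theorem trace_eq_sum (h : IsAct R) (T : Module.End ℂ V) :
    LinearMap.trace ℂ V T = ∑ χ : AddChar A ℂ, LinearMap.trace ℂ V (T * pr R χ) := by
  rw [← map_sum, ← Finset.mul_sum, sum_pr h, mul_one]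

theorem trace_mul_pr_of_ne (h : IsAct R) {T : Module.End ℂ V} {χ χ' : AddChar A ℂ} (hne : χ ≠ χ')
    (hT : ∀ v ∈ wt R χ, T v ∈ wt R χ') : LinearMap.trace ℂ V (T * pr R χ) = 0 := by
  have h1 : T * pr R χ = pr R χ' * (T * pr R χ) := by
    ext v
    rw [Module.End.mul_apply, Module.End.mul_apply, Module.End.mul_apply, pr_of_mem (hT _ (pr_mem h χ v))]
  rw [h1, LinearMap.trace_mul_comm, mul_assoc, pr_mul_ne h hne, mul_zero, map_zero]

theorem trace_mul_pr_of_smul (h : IsAct R) {T : Module.End ℂ V} {χ : AddChar A ℂ} {c : ℂ}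
    (hT : ∀ v ∈ wt R χ, T v = c • v) : LinearMap.trace ℂ V (T * pr R χ) = c * (finrank ℂ (wt R χ) : ℂ) := by
  have h1 : T * pr R χ = c • pr R χ := by
    ext v
    rw [Module.End.mul_apply, hT _ (pr_mem h χ v), LinearMap.smul_apply]
  rw [h1, map_smul, trace_pr h, smul_eq_mul]

/-- the multiplicity formula -/
theorem finrank_eq_sum (h : IsAct R) (χ : AddChar A ℂ) :
    (finrank ℂ (wt R χ) : ℂ) = (Fintype.card A : ℂ)⁻¹ * ∑ a, χ (-a) * LinearMap.trace ℂ V (R a) := by
  rw [← trace_pr h, pr, map_smul, map_sum, smul_eq_mul]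
  simp only [map_smul, smul_eq_mul]

/-- the trace of an element of the family -/
theorem trace_act (h : IsAct R) (a : A) :
    LinearMap.trace ℂ V (R a) = ∑ χ : AddChar A ℂ, χ a * (finrank ℂ (wt R χ) : ℂ) := by
  rw [trace_eq_sum h]
  exact Finset.sum_congr rfl fun χ _ => trace_mul_pr_of_smul h fun v hv => hv a

omit [Fintype A] in
/-- transport of weight spaces -/
theorem finrank_wt_le {T S : Module.End ℂ V} (hST : S * T = 1) {χ χ' : AddChar A ℂ}
    (hT : ∀ v ∈ wt R χ, T v ∈ wt R χ') : finrank ℂ (wt R χ) ≤ finrank ℂ (wt R χ') := by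
  refine LinearMap.finrank_le_finrank_of_injective (f := T.restrict hT) ?_
  intro v w hvw
  have h1 : T v = T w := congrArg Subtype.val hvw
  have h2 : S (T v) = S (T w) := by rw [h1]
  rw [← Module.End.mul_apply, ← Module.End.mul_apply, hST, Module.End.one_apply, Module.End.one_apply] at h2
  exact Subtype.ext h2

/-! ### Representations -/

section Rep

variable {G : Type*} [Group G] (ρ : Representation ℂ G V)

omit [Fintype A] [FiniteDimensional ℂ V] in
/-- a parametrised abelian subgroup acts -/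
theorem isAct_of {x : A → G} (hx : ∀ a b, x (a + b) = x a * x b) : IsAct fun a => ρ (x a) := by
  have h0 : x 0 = 1 := by
    have := hx 0 0
    rw [add_zero] at this
    exact (mul_eq_left.mp this.symm)
  refine ⟨by rw [h0, map_one], fun a b => by rw [hx, map_mul]⟩

omit [Fintype A] [FiniteDimensional ℂ V] in
/-- an element normalising the family maps weight spaces to weight spaces -/
theorem map_wt {x : A → G} {g : G} {f : A → A} (hg : ∀ a, g * x a = x (f a) * g)
    (hf : Function.Surjective f) {χ χ' : AddChar A ℂ} (hχ : ∀ a, χ' (f a) = χ a) {v : V}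
    (hv : v ∈ wt (fun a => ρ (x a)) χ) : ρ g v ∈ wt (fun a => ρ (x a)) χ' := by
  intro b
  obtain ⟨a, rfl⟩ := hf b
  rw [← Module.End.mul_apply, ← map_mul, ← hg, map_mul, Module.End.mul_apply, hv a, map_smul, hχ]

omit [Fintype A] in
theorem finrank_wt_eq {x : A → G} {g : G} {f : A → A} (hg : ∀ a, g * x a = x (f a) * g)
    (hf : Function.Bijective f) {χ χ' : AddChar A ℂ} (hχ : ∀ a, χ' (f a) = χ a) :
    finrank ℂ (wt (fun a => ρ (x a)) χ) = finrank ℂ (wt (fun a => ρ (x a)) χ') := by
  have hinv : ∀ g : G, ρ g⁻¹ * ρ g = 1 := fun g => by rw [← map_mul, inv_mul_cancel, map_one]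
  apply le_antisymm
  · exact finrank_wt_le (hinv g) fun v hv => map_wt ρ hg hf.2 hχ hv
  · obtain ⟨f', hl, hr⟩ := Function.bijective_iff_has_inverse.mp hf
    refine finrank_wt_le (hinv g⁻¹) fun v hv => map_wt ρ (g := g⁻¹) (f := f') ?_ hl.surjective ?_ hv
    · intro a
      have h1 := hg (f' a)
      rw [hr a] at h1
      rw [inv_mul_eq_iff_eq_mul, ← mul_assoc, h1, mul_assoc, mul_inv_cancel, mul_one]
    · intro a
      rw [← hχ, hr a]

end Rep

end Cfsg.Agent.H121.Wt
end

-- part: H121/Chr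
section
/-!
# More tools: product characters, shifts, faithful representations of simple groups, Klein four-groups
-/

set_option autoImplicit false
set_option linter.unusedSectionVars false

namespace Cfsg.Agent.H121.Chr

open Module Cfsg.Agent.H121.Wt

/-! ### Product characters -/

section Prod

variable {A B : Type*} [AddCommGroup A] [AddCommGroup B]

/-- the character `(a, b) ↦ μ a * ψ b` -/
def pc (μ : AddChar A ℂ) (ψ : AddChar B ℂ) : AddChar (A × B) ℂ where
  toFun p := μ p.1 * ψ p.2
  map_zero_eq_one' := by simp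
  map_add_eq_mul' p r := by
    simp only [Prod.fst_add, Prod.snd_add, AddChar.map_add_eq_mul]
    ring

@[simp] theorem pc_apply (μ : AddChar A ℂ) (ψ : AddChar B ℂ) (p : A × B) : pc μ ψ p = μ p.1 * ψ p.2 := rfl

/-- first component -/
def fc (χ : AddChar (A × B) ℂ) : AddChar A ℂ where
  toFun a := χ (a, 0)
  map_zero_eq_one' := by
    rw [Prod.mk_zero_zero, AddChar.map_zero_eq_one]
  map_add_eq_mul' a b := by
    rw [← AddChar.map_add_eq_mul, Prod.mk_add_mk, add_zero]

/-- second component -/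
def sc (χ : AddChar (A × B) ℂ) : AddChar B ℂ where
  toFun b := χ (0, b)
  map_zero_eq_one' := by
    rw [Prod.mk_zero_zero, AddChar.map_zero_eq_one]
  map_add_eq_mul' a b := by
    rw [← AddChar.map_add_eq_mul, Prod.mk_add_mk, add_zero]

@[simp] theorem fc_apply (χ : AddChar (A × B) ℂ) (a : A) : fc χ a = χ (a, 0) := rfl
@[simp] theorem sc_apply (χ : AddChar (A × B) ℂ) (b : B) : sc χ b = χ (0, b) := rfl

theorem pc_fc_sc (χ : AddChar (A × B) ℂ) : pc (fc χ) (sc χ) = χ := by
  apply DFunLike.ext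
  intro p
  rw [pc_apply, fc_apply, sc_apply, ← AddChar.map_add_eq_mul, Prod.mk_add_mk, add_zero, zero_add]

theorem fc_pc (μ : AddChar A ℂ) (ψ : AddChar B ℂ) : fc (pc μ ψ) = μ := by
  apply DFunLike.ext
  intro a
  rw [fc_apply, pc_apply, AddChar.map_zero_eq_one, mul_one]

theorem sc_pc (μ : AddChar A ℂ) (ψ : AddChar B ℂ) : sc (pc μ ψ) = ψ := by
  apply DFunLike.ext
  intro a
  rw [sc_apply, pc_apply, AddChar.map_zero_eq_one, one_mul]

theorem pc_inj {μ μ' : AddChar A ℂ} {ψ ψ' : AddChar B ℂ} : pc μ ψ = pc μ' ψ' ↔ μ = μ' ∧ ψ = ψ' := by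
  constructor
  · intro h
    exact ⟨by rw [← fc_pc μ ψ, h, fc_pc], by rw [← sc_pc μ ψ, h, sc_pc]⟩
  · rintro ⟨rfl, rfl⟩; rfl

/-- the equivalence of characters of a product with pairs of characters -/
def pcEquiv : (AddChar A ℂ × AddChar B ℂ) ≃ AddChar (A × B) ℂ where
  toFun p := pc p.1 p.2
  invFun χ := (fc χ, sc χ)
  left_inv p := by simp only [fc_pc, sc_pc]
  right_inv χ := pc_fc_sc χ

@[simp] theorem pcEquiv_apply (p : AddChar A ℂ × AddChar B ℂ) : pcEquiv p = pc p.1 p.2 := rfl

end Prod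

/-! ### Characters of a finite field -/

section Field

variable {F : Type*} [Field F] [Finite F]

/-- every character of a finite field is a shift of a given nontrivial one -/
theorem exists_mulShift {ψ : AddChar F ℂ} (hψ : ψ ≠ 1) (φ : AddChar F ℂ) : ∃ t : F, ∀ x, φ x = ψ (t * x) := by
  classical
  have := Fintype.ofFinite F
  have hinj : Function.Injective fun t : F => AddChar.mulShift ψ t :=
    AddChar.to_mulShift_inj_of_isPrimitive (AddChar.IsPrimitive.of_ne_one hψ)
  have hcard : Fintype.card F = Fintype.card (AddChar F ℂ) := by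
    have := AddChar.card_eq (α := F)
    rw [← this]
  obtain ⟨t, ht⟩ := ((Fintype.bijective_iff_injective_and_card _).mpr ⟨hinj, hcard⟩).2 φ
  exact ⟨t, fun x => by rw [← ht]; rfl⟩

end Field

theorem card_addChar (A : Type*) [AddCommGroup A] [Fintype A] : Fintype.card (AddChar A ℂ) = Fintype.card A := by
  have := AddChar.card_eq (α := A)
  rw [← this]

/-! ### Decomposition of operators -/

section Dec

variable {A : Type*} [AddCommGroup A] [Fintype A] {V : Type*} [AddCommGroup V] [Module ℂ V] {R : A → Module.End ℂ V}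

theorem pr_eq_zero {χ : AddChar A ℂ} (h : IsAct R) (hχ : wt R χ = ⊥) : pr R χ = 0 := by
  ext v
  have := pr_mem h χ v
  rw [hχ, Submodule.mem_bot] at this
  rw [this, LinearMap.zero_apply]

theorem act_eq_sum (h : IsAct R) (a : A) : R a = ∑ χ : AddChar A ℂ, χ a • pr R χ := by
  have h1 : R a = R a * ∑ χ : AddChar A ℂ, pr R χ := by rw [sum_pr h, mul_one]
  rw [h1, Finset.mul_sum]
  refine Finset.sum_congr rfl fun χ _ => ?_
  ext v
  rw [Module.End.mul_apply, pr_mem h χ v a, LinearMap.smul_apply]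

/-- if `R a ≠ 1` then there is a weight with `χ a ≠ 1` -/
theorem exists_wt (h : IsAct R) {a : A} (ha : R a ≠ 1) : ∃ χ : AddChar A ℂ, wt R χ ≠ ⊥ ∧ χ a ≠ 1 := by
  by_contra hcon
  push Not at hcon
  apply ha
  rw [act_eq_sum h, ← sum_pr h]
  refine Finset.sum_congr rfl fun χ _ => ?_
  by_cases hw : wt R χ = ⊥
  · rw [pr_eq_zero h hw, smul_zero]
  · rw [hcon χ hw, one_smul]

end Dec

/-! ### Simple groups -/

section Simple

variable {G : Type*} [Group G] {V : Type*} [AddCommGroup V] [Module ℂ V] (ρ : Representation ℂ G V)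

theorem faithful [IsSimpleGroup G] (hρ : ∃ g, ρ g ≠ 1) {g : G} (hg : g ≠ 1) : ρ g ≠ 1 := by
  intro h
  obtain ⟨g', hg'⟩ := hρ
  let f : G →* (Module.End ℂ V)ˣ := MonoidHom.toHomUnits ρ
  have hf : ∀ x, f x = 1 ↔ ρ x = 1 := fun x => by
    rw [Units.ext_iff]; rfl
  rcases (inferInstance : f.ker.Normal).eq_bot_or_eq_top with hb | ht
  · apply hg
    have : g ∈ f.ker := (hf g).mpr h
    rwa [hb, Subgroup.mem_bot] at this
  · apply hg'
    have : g' ∈ f.ker := by rw [ht]; trivial
    exact (hf g').mp this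

/-- an irreducible representation of degree at least two is not trivial -/
theorem exists_ne_one {k : ℕ} (ρ : Representation ℂ G (Fin k → ℂ)) (hρ : ρ.IsIrreducible) (hk : 2 ≤ k) :
    ∃ g, ρ g ≠ 1 := by
  by_contra hcon
  push Not at hcon
  have h0 : (0 : ℕ) < k := by omega
  let v : Fin k → ℂ := Pi.single ⟨0, h0⟩ 1
  have hv : v ≠ 0 := by
    intro h
    have := congrFun h ⟨0, h0⟩
    simp [v] at this
  let W : Subrepresentation ρ :=
    { toSubmodule := ℂ ∙ v
      apply_mem_toSubmodule := by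
        intro g w hw
        rw [hcon g]
        exact hw }
  have hW : W = ⊥ ∨ W = ⊤ := eq_bot_or_eq_top W
  rcases hW with hW | hW
  · have h1 : v ∈ W.toSubmodule := Submodule.mem_span_singleton_self v
    rw [hW] at h1
    exact hv ((Submodule.mem_bot ℂ).mp h1)
  · have h1 : W.toSubmodule = ⊤ := by rw [hW]; rfl
    have h2 : finrank ℂ (ℂ ∙ v) = k := by
      change finrank ℂ W.toSubmodule = k
      rw [h1, finrank_top, finrank_fin_fun]
    rw [finrank_span_singleton hv] at h2
    omega

end Simple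

/-! ### Klein four-groups -/

section Klein

variable {G : Type*} [Group G] {V : Type*} [AddCommGroup V] [Module ℂ V] [FiniteDimensional ℂ V]
  (ρ : Representation ℂ G V)

/-- If the three involutions of a Klein four-group have trace zero then the dimension is divisible by 4. -/
theorem four_dvd {i n : G} (hi : i * i = 1) (hn : n * n = 1) (hin : i * n = n * i)
    (h1 : LinearMap.trace ℂ V (ρ i) = 0) (h2 : LinearMap.trace ℂ V (ρ n) = 0)
    (h3 : LinearMap.trace ℂ V (ρ (i * n)) = 0) : 4 ∣ finrank ℂ V := by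
  set e : Module.End ℂ V := (4 : ℂ)⁻¹ • (1 + ρ i + ρ n + ρ (i * n)) with he
  have ai : ρ i * ρ i = 1 := by rw [← map_mul, hi, map_one]
  have an : ρ n * ρ n = 1 := by rw [← map_mul, hn, map_one]
  have ain : ρ (i * n) = ρ i * ρ n := map_mul _ _ _
  have anc : ρ n * ρ i = ρ i * ρ n := by rw [← map_mul, ← map_mul, hin]
  have hee : e * e = e := by
    rw [he, smul_mul_smul_comm, ain]
    have : (1 + ρ i + ρ n + ρ i * ρ n) * (1 + ρ i + ρ n + ρ i * ρ n) =
        (4 : ℂ) • (1 + ρ i + ρ n + ρ i * ρ n) := by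
      have e1 : ρ i * (ρ i * ρ n) = ρ n := by rw [← mul_assoc, ai, one_mul]
      have e2 : ρ n * (ρ i * ρ n) = ρ i := by rw [← mul_assoc, anc, mul_assoc, an, mul_one]
      have e3 : ρ i * ρ n * ρ i = ρ n := by rw [mul_assoc, anc, ← mul_assoc, ai, one_mul]
      have e4 : ρ i * ρ n * ρ n = ρ i := by rw [mul_assoc, an, mul_one]
      have e5 : ρ i * ρ n * (ρ i * ρ n) = 1 := by rw [mul_assoc, e2, ai]
      simp only [add_mul, mul_add, one_mul, mul_one, ai, an, anc, e1, e2, e3, e4, e5]
      have : (4 : ℂ) = 1 + 1 + 1 + 1 := by norm_num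
      rw [this, add_smul, add_smul, add_smul, one_smul]
      abel
    rw [this, smul_smul]
    congr 1
    norm_num
  have hproj : LinearMap.IsProj (LinearMap.range e) e := by
    refine ⟨fun v => LinearMap.mem_range_self e v, ?_⟩
    rintro v ⟨w, rfl⟩
    rw [← Module.End.mul_apply, hee]
  have htr := hproj.trace
  rw [he, map_smul, map_add, map_add, map_add, h1, h2, h3, LinearMap.trace_one, smul_eq_mul, add_zero, add_zero,
    add_zero] at htr
  refine ⟨finrank ℂ (LinearMap.range e), ?_⟩
  have : (finrank ℂ V : ℂ) = 4 * (finrank ℂ (LinearMap.range e) : ℂ) := by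
    rw [← he] at htr
    rw [← htr]
    ring
  exact_mod_cast this

theorem trace_conj (g x : G) : LinearMap.trace ℂ V (ρ (g * x * g⁻¹)) = LinearMap.trace ℂ V (ρ x) := by
  have e : g⁻¹ * (g * x) = x := by group
  rw [map_mul, LinearMap.trace_mul_comm, ← map_mul, e]

theorem trace_eq_of_isConj {x y : G} (h : IsConj x y) :
    LinearMap.trace ℂ V (ρ x) = LinearMap.trace ℂ V (ρ y) := by
  obtain ⟨g, rfl⟩ := isConj_iff.mp h
  exact (trace_conj ρ g x).symm

end Klein

end Cfsg.Agent.H121.Chr
end
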