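import Cfsg.Agent.H121.HexBase
set_option linter.all false

/-!
# Lower bounds for the degrees of complex representations of groups with the relations of a hexagonal root system

`main`: see `HexBase`.
-/

set_option autoImplicit false
set_option linter.unusedSectionVars false

namespace Cfsg.Agent.H121.HexMin

open Module Cfsg.Agent.H121.Wt Cfsg.Agent.H121.Chr
open Cfsg.Agent.SplitTwo (HexRel trc shp crs nrm kk)

variable {E : Type*} [Field E] [Fintype E] {σ : E ≃+* E} {G : Type*} [Group G] {x1 x2 x3 x4 x5 x6 : E → G} {n h : G}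
  {V : Type*} [AddCommGroup V] [Module ℂ V] [FiniteDimensional ℂ V] (ρ : Representation ℂ G V)

noncomputable instance fxFintype : Fintype (fx σ) := Fintype.ofFinite _

/-- the operators -/
def R (ρ : Representation ℂ G V) (x2 x3 x4 : E → G) (p : fx σ × E × fx σ) : Module.End ℂ V := ρ (xx x2 x3 x4 p)

/-- the character with three components -/
def tri (l : AddChar (fx σ) ℂ) (μ : AddChar E ℂ) (ν : AddChar (fx σ) ℂ) : AddChar (fx σ × E × fx σ) ℂ := pc l (pc μ ν)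

theorem tri_apply (l : AddChar (fx σ) ℂ) (μ : AddChar E ℂ) (ν : AddChar (fx σ) ℂ) (p : fx σ × E × fx σ) :
    tri l μ ν p = l p.1 * (μ p.2.1 * ν p.2.2) := rfl

theorem tri_inj {l l' : AddChar (fx σ) ℂ} {μ μ' : AddChar E ℂ} {ν ν' : AddChar (fx σ) ℂ} :
    tri l μ ν = tri l' μ' ν' ↔ l = l' ∧ μ = μ' ∧ ν = ν' := by
  rw [tri, tri, pc_inj, pc_inj]

/-- the equivalence -/
def triEquiv : (AddChar (fx σ) ℂ × AddChar E ℂ × AddChar (fx σ) ℂ) ≃ AddChar (fx σ × E × fx σ) ℂ where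
  toFun p := tri p.1 p.2.1 p.2.2
  invFun χ := (fc χ, fc (sc χ), sc (sc χ))
  left_inv p := by simp only [tri, fc_pc, sc_pc]
  right_inv χ := by simp only [tri, pc_fc_sc]

@[simp] theorem triEquiv_apply (p : AddChar (fx σ) ℂ × AddChar E ℂ × AddChar (fx σ) ℂ) :
    triEquiv p = tri p.1 p.2.1 p.2.2 := rfl

theorem exists_tri (χ : AddChar (fx σ × E × fx σ) ℂ) : ∃ l μ ν, χ = tri l μ ν :=
  ⟨fc χ, fc (sc χ), sc (sc χ), (triEquiv.right_inv χ).symm⟩

section Conj

variable (D : HexAux σ x1 x2 x3 x4 x5 x6 n h)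

include D

theorem isAct : IsAct (R (σ := σ) ρ x2 x3 x4) := isAct_of ρ (xx_add D.rel)

theorem cube : ∀ a, σ (σ (σ a)) = a := D.rel.cube

/-- multiplicity of a weight -/
noncomputable def mu (ρ : Representation ℂ G V) (x2 x3 x4 : E → G) (l : AddChar (fx σ) ℂ) (μ : AddChar E ℂ)
    (ν : AddChar (fx σ) ℂ) : ℕ := finrank ℂ (wt (R (σ := σ) ρ x2 x3 x4) (tri l μ ν))

theorem bij1 (c : E) : Function.Bijective fun p : fx σ × E × fx σ => (p.1 + tr σ D.rel.cube c p.2.1, p.2.1, p.2.2) := by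
  rw [Function.bijective_iff_has_inverse]
  refine ⟨fun p => (p.1 - tr σ D.rel.cube c p.2.1, p.2.1, p.2.2), fun p => ?_, fun p => ?_⟩ <;> simp

theorem bij5 (c : E) : Function.Bijective fun p : fx σ × E × fx σ => (p.1, p.2.1, p.2.2 - tr σ D.rel.cube p.2.1 c) := by
  rw [Function.bijective_iff_has_inverse]
  refine ⟨fun p => (p.1, p.2.1, p.2.2 + tr σ D.rel.cube p.2.1 c), fun p => ?_, fun p => ?_⟩ <;> simp

omit D in
theorem bij6 (u : fx σ) : Function.Bijective fun p : fx σ × E × fx σ => (p.1, p.2.1, p.2.2 - p.1 * u) := by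
  rw [Function.bijective_iff_has_inverse]
  refine ⟨fun p => (p.1, p.2.1, p.2.2 + p.1 * u), fun p => ?_, fun p => ?_⟩ <;> simp

theorem mu_five {l : AddChar (fx σ) ℂ} {μ μ' : AddChar E ℂ} {ν : AddChar (fx σ) ℂ} (hν : ν ≠ 1) :
    mu ρ x2 x3 x4 l μ ν = mu ρ x2 x3 x4 l μ' ν := by
  obtain ⟨c, hc⟩ := (tc_bijective D.rel.cube D.nondeg hν).2 (μ' * μ⁻¹)
  refine finrank_wt_eq ρ (g := x5 c) (g5 D.rel D.rel.cube c) (bij5 D c) fun p => ?_
  have h1 := DFunLike.congr_fun hc p.2.1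
  rw [tc_apply, tr_comm, AddChar.mul_apply, AddChar.inv_apply'] at h1
  simp only [tri_apply]
  rw [sub_eq_add_neg, AddChar.map_add_eq_mul, AddChar.map_neg_eq_inv, h1]
  have e1 := ne_zero' μ p.2.1
  have e2 := ne_zero' μ' p.2.1
  field_simp

theorem mu_six {l l' : AddChar (fx σ) ℂ} {μ : AddChar E ℂ} {ν : AddChar (fx σ) ℂ} (hν : ν ≠ 1) :
    mu ρ x2 x3 x4 l μ ν = mu ρ x2 x3 x4 l' μ ν := by
  obtain ⟨u, hu⟩ := exists_mulShift hν (l' * l⁻¹)
  refine finrank_wt_eq ρ (g := x6 u) (g6 D.rel u) (bij6 u) fun p => ?_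
  have h1 := hu p.1
  rw [AddChar.mul_apply, AddChar.inv_apply', mul_comm u] at h1
  simp only [tri_apply]
  rw [sub_eq_add_neg, AddChar.map_add_eq_mul, AddChar.map_neg_eq_inv, ← h1]
  have e1 := ne_zero' l p.1
  have e2 := ne_zero' l' p.1
  field_simp

theorem mu_A {l l' : AddChar (fx σ) ℂ} {μ μ' : AddChar E ℂ} {ν : AddChar (fx σ) ℂ} (hν : ν ≠ 1) :
    mu ρ x2 x3 x4 l μ ν = mu ρ x2 x3 x4 l' μ' ν := (mu_five ρ D hν).trans (mu_six ρ D hν)

/-- the element `n` -/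
theorem gn : ∃ e e' : fx σ, e ≠ 0 ∧ e' ≠ 0 ∧ ∃ f : E ≃+ E, ∀ p : fx σ × E × fx σ,
    n * xx x2 x3 x4 p = xx x2 x3 x4 (e' * p.2.2, f p.2.1, e * p.1) * n := by
  obtain ⟨e, he, he0, h2⟩ := D.n2
  obtain ⟨e', he', he0', h4⟩ := D.n4
  obtain ⟨f, h3⟩ := D.n3
  refine ⟨⟨e, he⟩, ⟨e', he'⟩, fun h => he0 (congrArg Subtype.val h), fun h => he0' (congrArg Subtype.val h), f, ?_⟩
  rintro ⟨s, a, t⟩
  simp only [xx]
  have e2 := h2 s s.2
  have e4 := h4 t t.2
  have c1 := c24 D.rel (⟨e', he'⟩ * t) (⟨e, he⟩ * s)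
  have c2 := c34 D.rel (f a) (⟨e, he⟩ * s)
  have c3 := c23 D.rel (⟨e', he'⟩ * t) (f a)
  rw [Subfield.coe_mul] at c1 c2 c3
  rw [Subfield.coe_mul] at c1
  rw [Subfield.coe_mul, Subfield.coe_mul]
  calc n * (x2 s * (x3 a * x4 t)) = (n * x2 s) * (x3 a * x4 t) := by group
    _ = x4 (e * s) * (n * x3 a) * x4 t := by rw [e2]; group
    _ = x4 (e * s) * x3 (f a) * (n * x4 t) := by rw [h3]; group
    _ = (x4 (e * s) * x3 (f a)) * x2 (e' * t) * n := by rw [e4]; group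
    _ = x3 (f a) * (x4 (e * s) * x2 (e' * t)) * n := by rw [← c2]; group
    _ = (x3 (f a) * x2 (e' * t)) * x4 (e * s) * n := by rw [← c1]; group
    _ = _ := by rw [← c3]; group

omit D in
theorem bijn {e e' : fx σ} (he : e ≠ 0) (he' : e' ≠ 0) (f : E ≃+ E) :
    Function.Bijective fun p : fx σ × E × fx σ => (e' * p.2.2, f p.2.1, e * p.1) := by
  rw [Function.bijective_iff_has_inverse]
  refine ⟨fun p => (e⁻¹ * p.2.2, f.symm p.2.1, e'⁻¹ * p.1), fun p => ?_, fun p => ?_⟩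
  · simp [he, he']
  · simp [he, he']

/-- transport by `n` -/
theorem mu_n {l : AddChar (fx σ) ℂ} (hl : l ≠ 1) : ∃ l' : AddChar (fx σ) ℂ, l' ≠ 1 ∧ ∀ μ ν, ∃ l'' μ'',
    mu ρ x2 x3 x4 l μ ν = mu ρ x2 x3 x4 l'' μ'' l' := by
  obtain ⟨e, e', he, he', f, hn⟩ := gn D
  refine ⟨AddChar.mulShift l e⁻¹, ?_, fun μ ν => ⟨AddChar.mulShift ν e'⁻¹,
    μ.compAddMonoidHom (f.symm : E →+ E), ?_⟩⟩
  · intro h1
    apply hl
    apply DFunLike.ext
    intro x
    have := DFunLike.congr_fun h1 (e * x)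
    rw [AddChar.mulShift_apply, inv_mul_cancel_left₀ he] at this
    rw [this, AddChar.one_apply, AddChar.one_apply]
  · refine finrank_wt_eq ρ (g := n) hn (bijn he he' f) fun p => ?_
    simp only [tri_apply, AddChar.mulShift_apply, inv_mul_cancel_left₀ he, inv_mul_cancel_left₀ he',
      AddChar.compAddMonoidHom_apply, AddMonoidHom.coe_coe, AddEquiv.symm_apply_apply]
    ring

theorem mu_B {l : AddChar (fx σ) ℂ} {μ μ' : AddChar E ℂ} {ν ν' : AddChar (fx σ) ℂ} (hl : l ≠ 1) :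
    mu ρ x2 x3 x4 l μ ν = mu ρ x2 x3 x4 l μ' ν' := by
  obtain ⟨l', hl', h1⟩ := mu_n ρ D hl
  obtain ⟨a, b, e1⟩ := h1 μ ν
  obtain ⟨a', b', e2⟩ := h1 μ' ν'
  rw [e1, e2]
  exact mu_A ρ D hl'

/-- all weights nontrivial on the long root groups have the same multiplicity -/
theorem mu_eq {l l' : AddChar (fx σ) ℂ} {μ μ' : AddChar E ℂ} {ν ν' : AddChar (fx σ) ℂ} (h1 : ¬ (l = 1 ∧ ν = 1))
    (h2 : ¬ (l' = 1 ∧ ν' = 1)) : mu ρ x2 x3 x4 l μ ν = mu ρ x2 x3 x4 l' μ' ν' := by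
  -- a nontrivial character of `F`
  obtain ⟨l0, hl0⟩ : ∃ l0 : AddChar (fx σ) ℂ, l0 ≠ 1 := by
    by_cases h : l = 1
    · exact ⟨ν, fun h' => h1 ⟨h, h'⟩⟩
    · exact ⟨l, h⟩
  have key : ∀ (l : AddChar (fx σ) ℂ) (μ : AddChar E ℂ) (ν : AddChar (fx σ) ℂ), ¬ (l = 1 ∧ ν = 1) →
      mu ρ x2 x3 x4 l μ ν = mu ρ x2 x3 x4 l0 1 l0 := by
    intro l μ ν h
    by_cases hν : ν = 1
    · have hl : l ≠ 1 := fun h' => h ⟨h', hν⟩
      rw [mu_B ρ D (μ' := μ) (ν' := l0) hl, mu_A ρ D (l' := l0) (μ' := 1) hl0]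
    · rw [mu_A ρ D (l' := l0) (μ' := 1) hν, mu_B ρ D (μ' := 1) (ν' := l0) hl0]
  rw [key _ _ _ h1, key _ _ _ h2]

end Conj

/-! ### The set of weights nontrivial on the long root groups -/

/-- nontrivial on `X₂ X₄` -/
def Big (χ : AddChar (fx σ × E × fx σ) ℂ) : Prop := ¬ (fc χ = 1 ∧ sc (sc χ) = 1)

theorem big_tri {l : AddChar (fx σ) ℂ} {μ : AddChar E ℂ} {ν : AddChar (fx σ) ℂ} :
    Big (tri l μ ν) ↔ ¬ (l = 1 ∧ ν = 1) := by
  rw [Big, tri, fc_pc, sc_pc, sc_pc]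

open Classical in
/-- the set of all these weights -/
noncomputable def S (σ : E ≃+* E) : Finset (AddChar (fx σ × E × fx σ) ℂ) := Finset.univ.filter Big

theorem mem_S {χ : AddChar (fx σ × E × fx σ) ℂ} : χ ∈ S σ ↔ Big χ := by
  classical
  simp [S]

/-- a sum over all triples of characters -/
theorem sum_tri {M : Type*} [AddCommMonoid M] (f : AddChar (fx σ × E × fx σ) ℂ → M) :
    ∑ χ, f χ = ∑ l, ∑ μ, ∑ ν, f (tri l μ ν) := by
  rw [← triEquiv.sum_comp, Fintype.sum_prod_type]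
  refine Finset.sum_congr rfl fun l _ => ?_
  rw [Fintype.sum_prod_type]
  rfl

open Classical in
theorem sum_not_S {M : Type*} [AddCommMonoid M] (f : AddChar (fx σ × E × fx σ) ℂ → M) :
    ∑ χ ∈ (S σ)ᶜ, f χ = ∑ μ, f (tri 1 μ 1) := by
  have h1 : ((S σ)ᶜ : Finset (AddChar (fx σ × E × fx σ) ℂ)) =
      Finset.univ.image fun μ : AddChar E ℂ => tri (1 : AddChar (fx σ) ℂ) μ 1 := by
    ext χ
    rw [Finset.mem_compl, mem_S, Finset.mem_image]
    obtain ⟨l, μ, ν, rfl⟩ := exists_tri χ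
    rw [big_tri, not_not]
    constructor
    · rintro ⟨rfl, rfl⟩
      exact ⟨μ, Finset.mem_univ _, rfl⟩
    · rintro ⟨μ', -, he⟩
      rw [tri_inj] at he
      exact ⟨he.1.symm, he.2.2.symm⟩
  rw [h1, Finset.sum_image]
  intro μ _ μ' _ he
  exact (tri_inj.mp he).2.1

theorem card_S_add : (S σ).card + Fintype.card E = Fintype.card (fx σ) ^ 2 * Fintype.card E := by
  classical
  have h1 := Finset.card_add_card_compl (S σ)
  have h2 : ((S σ)ᶜ).card = Fintype.card E := by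
    rw [Finset.card_eq_sum_ones, sum_not_S, ← Finset.card_eq_sum_ones, Finset.card_univ, card_addChar]
  rw [h2, card_addChar, Fintype.card_prod, Fintype.card_prod] at h1
  rw [h1]
  ring

/-! ### Traces -/

/-- the eigenvalues of a family of commuting elements on a one-dimensional invariant space -/
theorem exists_eig {B : Type*} [AddCommGroup B] {y : B → G} (hy : ∀ a b, y (a + b) = y a * y b) {W : Submodule ℂ V}
    (hW : finrank ℂ W = 1) (hinv : ∀ b, ∀ v ∈ W, ρ (y b) v ∈ W) {w : V} (hw : w ∈ W) (hw0 : w ≠ 0) :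
    ∃ η : AddChar B ℂ, ∀ b, ρ (y b) w = η b • w := by
  have hw0' : (⟨w, hw⟩ : W) ≠ 0 := fun h => hw0 (congrArg Subtype.val h)
  have h1 := (finrank_eq_one_iff_of_nonzero' (⟨w, hw⟩ : W) hw0').mp hW
  have h2 : ∀ b, ∃ c : ℂ, ρ (y b) w = c • w := by
    intro b
    obtain ⟨c, hc⟩ := h1 ⟨ρ (y b) w, hinv b w hw⟩
    exact ⟨c, (congrArg Subtype.val hc).symm⟩
  choose η hη using h2
  have hy0 : y 0 = 1 := by
    have := hy 0 0
    rw [add_zero] at this
    exact mul_eq_left.mp this.symm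
  refine ⟨⟨η, ?_, ?_⟩, hη⟩
  · have := hη 0
    rw [hy0, map_one, Module.End.one_apply] at this
    have h3 : (1 : ℂ) • w = η 0 • w := by rw [one_smul, ← this]
    exact (smul_left_injective ℂ hw0 h3).symm
  · intro a b
    have h3 : η (a + b) • w = (η a * η b) • w := by
      rw [← hη, hy, map_mul, Module.End.mul_apply, hη, map_smul, hη, smul_smul, mul_comm]
    exact smul_left_injective ℂ hw0 h3

theorem smul_of_mem {W : Submodule ℂ V} (hW : finrank ℂ W = 1) {w : V} (hw : w ∈ W) (hw0 : w ≠ 0) {T : Module.End ℂ V}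
    {c : ℂ} (hT : T w = c • w) : ∀ v ∈ W, T v = c • v := by
  intro v hv
  have hw0' : (⟨w, hw⟩ : W) ≠ 0 := fun h => hw0 (congrArg Subtype.val h)
  obtain ⟨d, hd⟩ := (finrank_eq_one_iff_of_nonzero' (⟨w, hw⟩ : W) hw0').mp hW ⟨v, hv⟩
  have hd' : d • w = v := congrArg Subtype.val hd
  rw [← hd', map_smul, hT, smul_comm]

theorem exists_gen {W : Submodule ℂ V} (hW : finrank ℂ W = 1) : ∃ w ∈ W, w ≠ 0 := by
  have : Nontrivial W := Module.nontrivial_of_finrank_pos (R := ℂ) (by rw [hW]; exact one_pos)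
  obtain ⟨w, hw⟩ := exists_ne (0 : W)
  exact ⟨w, w.2, fun h => hw (Subtype.ext h)⟩

theorem rho_inj (g : G) {w : V} (hw : w ≠ 0) : ρ g w ≠ 0 := by
  intro h
  apply hw
  have : ρ g⁻¹ (ρ g w) = 0 := by rw [h, map_zero]
  rwa [← Module.End.mul_apply, ← map_mul, inv_mul_cancel, map_one, Module.End.one_apply] at this

section Trace

variable (D : HexAux σ x1 x2 x3 x4 x5 x6 n h)

include D

theorem zero3 : x3 0 = 1 := by
  have := D.rel.add3 0 0
  rw [add_zero] at this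
  exact mul_eq_left.mp this.symm

theorem zero2 : x2 0 = 1 := by
  have := D.rel.add2 0 0 (map_zero σ) (map_zero σ)
  rw [add_zero] at this
  exact mul_eq_left.mp this.symm

theorem zero4 : x4 0 = 1 := by
  have := D.rel.add4 0 0 (map_zero σ) (map_zero σ)
  rw [add_zero] at this
  exact mul_eq_left.mp this.symm

theorem xx2 (s : fx σ) : x2 (s : E) = xx x2 x3 x4 (s, 0, (0 : fx σ)) := by
  simp only [xx]
  rw [zero3 D, Subfield.coe_zero, zero4 D, mul_one, mul_one]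

theorem xx3 (a : E) : x3 a = xx x2 x3 x4 ((0 : fx σ), a, (0 : fx σ)) := by
  simp only [xx]
  rw [Subfield.coe_zero, zero2 D, zero4 D, mul_one, one_mul]

theorem xx4 (s : fx σ) : x4 (s : E) = xx x2 x3 x4 ((0 : fx σ), 0, s) := by
  simp only [xx]
  rw [Subfield.coe_zero, zero2 D, zero3 D, one_mul, one_mul]

theorem trace_x4 (hone : ∀ χ ∈ S σ, finrank ℂ (wt (R (σ := σ) ρ x2 x3 x4) χ) = 1) {u : fx σ} (hu : u ≠ 0) :
    LinearMap.trace ℂ V (ρ (x4 (u : E))) = (finrank ℂ V : ℂ) - (Fintype.card (fx σ) : ℂ) ^ 2 * Fintype.card E := by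
  classical
  have hact := isAct ρ D
  have e1 : ρ (x4 (u : E)) = R ρ x2 x3 x4 ((0 : fx σ), 0, u) := by rw [xx4 D, R]
  have hval : ∀ χ : AddChar (fx σ × E × fx σ) ℂ, χ ∉ S σ → χ ((0 : fx σ), 0, u) = 1 := by
    intro χ hχ
    obtain ⟨l, μ, ν, rfl⟩ := exists_tri χ
    rw [mem_S, big_tri, not_not] at hχ
    rw [tri_apply, hχ.2, AddChar.map_zero_eq_one, AddChar.map_zero_eq_one, AddChar.one_apply, one_mul, one_mul]
  rw [e1, trace_act hact, ← Finset.sum_add_sum_compl (S σ)]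
  have h1 : ∑ χ ∈ S σ, χ ((0 : fx σ), 0, u) * (finrank ℂ (wt (R (σ := σ) ρ x2 x3 x4) χ) : ℂ) =
      ∑ χ ∈ S σ, χ ((0 : fx σ), 0, u) := Finset.sum_congr rfl fun χ hχ => by rw [hone χ hχ, Nat.cast_one, mul_one]
  have h2 : ∑ χ ∈ (S σ)ᶜ, χ ((0 : fx σ), 0, u) * (finrank ℂ (wt (R (σ := σ) ρ x2 x3 x4) χ) : ℂ) =
      ∑ χ ∈ (S σ)ᶜ, (finrank ℂ (wt (R (σ := σ) ρ x2 x3 x4) χ) : ℂ) :=
    Finset.sum_congr rfl fun χ hχ => by rw [hval χ (Finset.mem_compl.mp hχ), one_mul]
  have h3 : (∑ χ ∈ S σ, χ ((0 : fx σ), 0, u)) + (Fintype.card E : ℂ) = 0 := by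
    have h4 : ∑ χ : AddChar (fx σ × E × fx σ) ℂ, χ ((0 : fx σ), 0, u) = 0 := by
      rw [AddChar.sum_apply_eq_zero_iff_ne_zero]
      intro h0
      exact hu (congrArg (fun p : fx σ × E × fx σ => p.2.2) h0)
    rw [← Finset.sum_add_sum_compl (S σ)] at h4
    have h5 : ∑ χ ∈ (S σ)ᶜ, χ ((0 : fx σ), 0, u) = (Fintype.card E : ℂ) := by
      rw [Finset.sum_congr rfl fun χ hχ => hval χ (Finset.mem_compl.mp hχ), sum_not_S, Finset.sum_const,
        Finset.card_univ, card_addChar, nsmul_eq_mul, mul_one]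
    rw [h5] at h4
    exact h4
  have h6 : ((S σ).card : ℂ) + ∑ χ ∈ (S σ)ᶜ, (finrank ℂ (wt (R (σ := σ) ρ x2 x3 x4) χ) : ℂ) = finrank ℂ V := by
    have h7 := sum_finrank hact
    rw [← Finset.sum_add_sum_compl (S σ), Finset.sum_congr rfl hone, Finset.sum_const, smul_eq_mul, mul_one] at h7
    rw [← h7]
    push_cast
    rfl
  have h8 : ((S σ).card : ℂ) + Fintype.card E = (Fintype.card (fx σ) : ℂ) ^ 2 * Fintype.card E := by
    have := card_S_add (σ := σ)
    exact_mod_cast this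
  rw [h1, h2]
  linear_combination h3 + h6 - h8

/-- the eigenvalues of `x₆ u` on the weight spaces over `l` -/
theorem exists_xi (hone : ∀ χ ∈ S σ, finrank ℂ (wt (R (σ := σ) ρ x2 x3 x4) χ) = 1) {l : AddChar (fx σ) ℂ} (hl : l ≠ 1) :
    ∃ ξ : AddChar (fx σ) ℂ, (ξ = 1 ∨ Nat.card (fx σ) = 2) ∧ ∀ (u : fx σ) (c : E),
      LinearMap.trace ℂ V (ρ (x6 (u : E)) * pr (R (σ := σ) ρ x2 x3 x4) (tri l (tc D.rel.cube l c)⁻¹ 1)) =
        ξ u * l (u * nm σ D.rel.cube c) := by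
  classical
  have hact := isAct ρ D
  have h31 : ∀ μ, finrank ℂ (wt (R (σ := σ) ρ x2 x3 x4) (tri l μ 1)) = 1 := fun μ =>
    hone _ (mem_S.mpr (big_tri.mpr fun h' => hl h'.1))
  obtain ⟨w, hw, hw0⟩ := exists_gen (h31 1)
  -- `x₅` and `x₆`
  have i5 : ∀ b : E, ∀ v ∈ wt (R (σ := σ) ρ x2 x3 x4) (tri l 1 1), ρ (x5 b) v ∈ wt (R (σ := σ) ρ x2 x3 x4) (tri l 1 1) := by
    intro b v hv
    refine map_wt ρ (g5 D.rel D.rel.cube b) (bij5 D b).2 (fun p => ?_) hv
    simp only [tri_apply, AddChar.one_apply]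
  have i6 : ∀ b : fx σ, ∀ v ∈ wt (R (σ := σ) ρ x2 x3 x4) (tri l 1 1),
      ρ (x6 (b : E)) v ∈ wt (R (σ := σ) ρ x2 x3 x4) (tri l 1 1) := by
    intro b v hv
    refine map_wt ρ (g6 D.rel b) (bij6 b).2 (fun p => ?_) hv
    simp only [tri_apply, AddChar.one_apply]
  obtain ⟨η, hη⟩ := exists_eig ρ D.rel.add5 (h31 1) i5 hw hw0
  obtain ⟨ξ, hξ⟩ := exists_eig ρ (y := fun b : fx σ => x6 (b : E)) (fun a b => by
    rw [Subfield.coe_add]; exact D.rel.add6 a b a.2 b.2) (h31 1) i6 hw hw0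
  -- the torus element
  obtain ⟨f, h3⟩ := D.h3
  obtain ⟨e, he, he0, h4⟩ := D.h4
  have gh : ∀ p : fx σ × E × fx σ, h * xx x2 x3 x4 p = xx x2 x3 x4 (p.1, f p.2.1, ⟨e, he⟩ * p.2.2) * h := by
    rintro ⟨s, a, t⟩
    simp only [xx, Subfield.coe_mul]
    calc h * (x2 s * (x3 a * x4 t)) = (h * x2 s) * (x3 a * x4 t) := by group
      _ = x2 s * (h * x3 a) * x4 t := by rw [D.h2 s s.2]; group
      _ = x2 s * x3 (f a) * (h * x4 t) := by rw [h3]; group
      _ = _ := by rw [h4 t t.2]; group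
  have hh : ρ h w ∈ wt (R (σ := σ) ρ x2 x3 x4) (tri l 1 1) := by
    refine map_wt ρ (f := fun p : fx σ × E × fx σ => (p.1, f p.2.1, (⟨e, he⟩ : fx σ) * p.2.2)) gh ?_ (fun p => ?_) hw
    · rintro ⟨s, a, t⟩
      refine ⟨(s, f.symm a, (⟨e, he⟩ : fx σ)⁻¹ * t), ?_⟩
      have : (⟨e, he⟩ : fx σ) ≠ 0 := fun h' => he0 (congrArg Subtype.val h')
      simp [this]
    · simp only [tri_apply, AddChar.one_apply]
  obtain ⟨τ, hτ⟩ : ∃ τ : ℂ, ρ h w = τ • w := by
    have hw0' : (⟨w, hw⟩ : wt (R (σ := σ) ρ x2 x3 x4) (tri l 1 1)) ≠ 0 := fun h => hw0 (congrArg Subtype.val h)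
    obtain ⟨c, hc⟩ := (finrank_eq_one_iff_of_nonzero' _ hw0').mp (h31 1) ⟨ρ h w, hh⟩
    exact ⟨c, (congrArg Subtype.val hc).symm⟩
  have hτ0 : τ ≠ 0 := by
    rintro rfl
    exact rho_inj ρ h hw0 (by rw [hτ, zero_smul])
  have hη1 : η = 1 := by
    obtain ⟨c, hc, h5⟩ := D.h5
    have h6 : ∀ b, η (c * b) = η b := by
      intro b
      have h7 : ρ (h * x5 b) w = ρ (x5 (c * b) * h) w := by rw [h5]
      rw [map_mul, map_mul, Module.End.mul_apply, Module.End.mul_apply, hη, hτ, map_smul, map_smul, hτ, hη,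
        smul_smul, smul_smul] at h7
      have h8 := smul_left_injective ℂ hw0 h7
      rw [mul_comm] at h8
      exact (mul_left_cancel₀ hτ0 h8).symm
    apply DFunLike.ext
    intro x
    have hc1 : c - 1 ≠ 0 := sub_ne_zero.mpr hc
    have h7 := h6 ((c - 1)⁻¹ * x)
    rw [show c * ((c - 1)⁻¹ * x) = x + (c - 1)⁻¹ * x by field_simp; ring, AddChar.map_add_eq_mul] at h7
    rw [AddChar.one_apply]
    exact mul_eq_right₀ (ne_zero' _ _) |>.mp h7
  refine ⟨ξ, ?_, ?_⟩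
  · rcases D.h6 with h6 | ⟨s, hs, hs1, h6⟩
    · exact Or.inr h6
    · left
      have h7 : ∀ b : fx σ, ξ (⟨s, hs⟩ * b) = ξ b := by
        intro b
        have h7 : ρ (h * x6 b) w = ρ (x6 (s * b) * h) w := by rw [h6 b b.2]
        have h8 : ρ (x6 (s * b)) w = ξ (⟨s, hs⟩ * b) • w := by
          rw [← hξ, Subfield.coe_mul]
        rw [map_mul, map_mul, Module.End.mul_apply, Module.End.mul_apply, hξ, hτ, map_smul, map_smul, hτ, h8,
          smul_smul, smul_smul] at h7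
        have h9 := smul_left_injective ℂ hw0 h7
        rw [mul_comm] at h9
        exact (mul_left_cancel₀ hτ0 h9).symm
      apply DFunLike.ext
      intro x
      have hc1 : (⟨s, hs⟩ : fx σ) - 1 ≠ 0 := sub_ne_zero.mpr fun h' => hs1 (congrArg Subtype.val h')
      have h8 := h7 (((⟨s, hs⟩ : fx σ) - 1)⁻¹ * x)
      rw [show (⟨s, hs⟩ : fx σ) * (((⟨s, hs⟩ : fx σ) - 1)⁻¹ * x) = x + ((⟨s, hs⟩ : fx σ) - 1)⁻¹ * x by
        field_simp; ring, AddChar.map_add_eq_mul] at h8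
      rw [AddChar.one_apply]
      exact mul_eq_right₀ (ne_zero' _ _) |>.mp h8
  · intro u c
    have hwc : ρ (x1 c) w ∈ wt (R (σ := σ) ρ x2 x3 x4) (tri l (tc D.rel.cube l c)⁻¹ 1) := by
      refine map_wt ρ (g1 D.rel D.rel.cube c) (bij1 D c).2 (fun p => ?_) hw
      simp only [tri_apply, AddChar.one_apply, AddChar.inv_apply', tc_apply, mul_one]
      rw [AddChar.map_add_eq_mul, mul_assoc, mul_inv_cancel₀ (ne_zero' _ _), mul_one]
    -- the relation
    set Nc := nm σ D.rel.cube c with hNc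
    have hNval : (Nc : E) = nrm σ c := rfl
    have hrel := kk_eq (D.rel.c16 c u u.2)
    have s1 : ρ (x5 (-((u : E) * c))) w = w := by rw [hη, hη1, AddChar.one_apply, one_smul]
    have s2 : ρ (x4 ((u : E) ^ 2 * nrm σ c)) w = w := by
      have this := hw ((0 : fx σ), (0 : E), u ^ 2 * Nc)
      rw [R, ← xx4 D, tri_apply] at this
      simp only [AddChar.map_zero_eq_one, AddChar.one_apply, one_smul, mul_one] at this
      rw [Subfield.coe_mul, SubmonoidClass.coe_pow, hNval] at this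
      exact this
    have s3 : ρ (x3 ((u : E) * shp σ c)) w = w := by
      rw [xx3 D]
      have := hw ((0 : fx σ), (u : E) * shp σ c, (0 : fx σ))
      rw [tri_apply] at this
      simp only [AddChar.map_zero_eq_one, AddChar.one_apply, one_smul, mul_one] at this
      exact this
    have s4 : ρ (x2 (-((u : E) * nrm σ c))) w = l (-(u * Nc)) • w := by
      have this := hw (-(u * Nc), (0 : E), (0 : fx σ))
      rw [R, ← xx2 D, tri_apply] at this
      simp only [AddChar.map_zero_eq_one, AddChar.one_apply, mul_one] at this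
      rw [Subfield.coe_neg, Subfield.coe_mul, hNval] at this
      exact this
    have s5 : ρ (x2 (-((u : E) * nrm σ c)) * x3 (u * shp σ c) * x4 (u ^ 2 * nrm σ c) * x5 (-(u * c))) w =
        l (-(u * Nc)) • w := by
      rw [map_mul, map_mul, map_mul, Module.End.mul_apply, Module.End.mul_apply, Module.End.mul_apply, s1, s2, s3, s4]
    have hmain : ρ (x6 (u : E)) (ρ (x1 c) w) = (ξ u * l (u * Nc)) • ρ (x1 c) w := by
      have h1 : ρ (x6 u * x1 c) (l (-(u * Nc)) • w) = ξ u • ρ (x1 c) w := by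
        rw [← s5, ← Module.End.mul_apply, ← map_mul, ← hrel, map_mul, Module.End.mul_apply, hξ, map_smul]
      rw [map_smul, map_mul, Module.End.mul_apply] at h1
      have h2 : ρ (x6 (u : E)) (ρ (x1 c) w) = (l (-(u * Nc)))⁻¹ • (l (-(u * Nc)) • ρ (x6 (u : E)) (ρ (x1 c) w)) := by
        rw [inv_smul_smul₀ (ne_zero' _ _)]
      rw [h2, h1, smul_smul, AddChar.map_neg_eq_inv, inv_inv, mul_comm]
    have hwc0 : ρ (x1 c) w ≠ 0 := rho_inj ρ _ hw0
    rw [trace_mul_pr_of_smul hact (smul_of_mem (h31 _) hwc hwc0 hmain), h31, Nat.cast_one, mul_one]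

/-- the trace of `x₆ u` on the sum of the big weight spaces -/
theorem trace_big (hone : ∀ χ ∈ S σ, finrank ℂ (wt (R (σ := σ) ρ x2 x3 x4) χ) = 1) {u : fx σ} (hu : u ≠ 0) :
    ∑ χ ∈ S σ, LinearMap.trace ℂ V (ρ (x6 (u : E)) * pr (R (σ := σ) ρ x2 x3 x4) χ) =
        (Fintype.card (fx σ) : ℂ) - Fintype.card E ∨
      (Fintype.card (fx σ) = 2 ∧ ∑ χ ∈ S σ, LinearMap.trace ℂ V (ρ (x6 (u : E)) * pr (R (σ := σ) ρ x2 x3 x4) χ) =
        (Fintype.card E : ℂ) - Fintype.card (fx σ)) := by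
  classical
  have hact := isAct ρ D
  have h0 : ∀ (l : AddChar (fx σ) ℂ) (μ : AddChar E ℂ) (ν : AddChar (fx σ) ℂ), ν ≠ 1 →
      LinearMap.trace ℂ V (ρ (x6 (u : E)) * pr (R (σ := σ) ρ x2 x3 x4) (tri l μ ν)) = 0 := by
    intro l μ ν hν
    refine trace_mul_pr_of_ne hact (χ' := tri (l * AddChar.mulShift ν u) μ ν) ?_ fun v hv => ?_
    · intro he
      rw [tri_inj] at he
      have h1 : AddChar.mulShift ν u = 1 := by
        have := he.1
        exact (mul_eq_left.mp this.symm)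
      apply hν
      apply DFunLike.ext
      intro x
      have := DFunLike.congr_fun h1 (u⁻¹ * x)
      rw [AddChar.mulShift_apply, mul_inv_cancel_left₀ hu] at this
      rw [this, AddChar.one_apply, AddChar.one_apply]
    · refine map_wt ρ (g6 D.rel u) (bij6 u).2 (fun p => ?_) hv
      simp only [tri_apply, AddChar.mul_apply, AddChar.mulShift_apply]
      rw [sub_eq_add_neg, AddChar.map_add_eq_mul, AddChar.map_neg_eq_inv, mul_comm u p.1]
      have := ne_zero' ν (p.1 * u)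
      field_simp
  have h1 : ∑ χ ∈ S σ, LinearMap.trace ℂ V (ρ (x6 (u : E)) * pr (R (σ := σ) ρ x2 x3 x4) χ) =
      ∑ l ∈ Finset.univ.erase (1 : AddChar (fx σ) ℂ), ∑ c : E,
        LinearMap.trace ℂ V (ρ (x6 (u : E)) * pr (R (σ := σ) ρ x2 x3 x4) (tri l (tc D.rel.cube l c)⁻¹ 1)) := by
    have e1 : ∑ χ ∈ S σ, LinearMap.trace ℂ V (ρ (x6 (u : E)) * pr (R (σ := σ) ρ x2 x3 x4) χ) =
        ∑ χ, if Big χ then LinearMap.trace ℂ V (ρ (x6 (u : E)) * pr (R (σ := σ) ρ x2 x3 x4) χ) else 0 := by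
      rw [S, Finset.sum_filter]
    rw [e1, sum_tri, ← Finset.sum_erase_add _ _ (Finset.mem_univ (1 : AddChar (fx σ) ℂ))]
    have e2 : (∑ μ : AddChar E ℂ, ∑ ν : AddChar (fx σ) ℂ, if Big (tri (1 : AddChar (fx σ) ℂ) μ ν) then
        LinearMap.trace ℂ V (ρ (x6 (u : E)) * pr (R (σ := σ) ρ x2 x3 x4) (tri 1 μ ν)) else 0) = 0 := by
      refine Finset.sum_eq_zero fun μ _ => Finset.sum_eq_zero fun ν _ => ?_
      split_ifs with hb
      · rw [big_tri] at hb
        exact h0 _ _ _ fun hν => hb ⟨rfl, hν⟩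
      · rfl
    rw [e2, add_zero]
    refine Finset.sum_congr rfl fun l hl => ?_
    have hl1 : l ≠ 1 := Finset.ne_of_mem_erase hl
    have hb : Function.Bijective fun c : E => (tc D.rel.cube l c)⁻¹ :=
      (Equiv.inv (AddChar E ℂ)).bijective.comp (tc_bijective D.rel.cube D.nondeg hl1)
    rw [← (Equiv.ofBijective _ hb).sum_comp]
    refine Finset.sum_congr rfl fun c _ => ?_
    rw [Finset.sum_eq_single (1 : AddChar (fx σ) ℂ)]
    · rw [if_pos]
      · rfl
      · rw [big_tri]; exact fun h' => hl1 h'.1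
    · intro ν _ hν
      rw [h0 _ _ _ hν, ite_self]
    · intro h'; exact absurd (Finset.mem_univ _) h'
  have hx : ∀ l : AddChar (fx σ) ℂ, l ≠ 1 → ∃ ξ : AddChar (fx σ) ℂ, (ξ = 1 ∨ Nat.card (fx σ) = 2) ∧ ∀ (u : fx σ) (c : E),
      LinearMap.trace ℂ V (ρ (x6 (u : E)) * pr (R (σ := σ) ρ x2 x3 x4) (tri l (tc D.rel.cube l c)⁻¹ 1)) =
        ξ u * l (u * nm σ D.rel.cube c) := fun l hl => exists_xi ρ D hone hl
  -- the sum over all `l`
  have hsum : ∑ l ∈ Finset.univ.erase (1 : AddChar (fx σ) ℂ), ∑ c : E, l (u * nm σ D.rel.cube c) =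
      (Fintype.card (fx σ) : ℂ) - Fintype.card E := by
    rw [Finset.sum_comm]
    have e1 : ∀ c : E, ∑ l ∈ Finset.univ.erase (1 : AddChar (fx σ) ℂ), l (u * nm σ D.rel.cube c) =
        (if c = 0 then (Fintype.card (fx σ) : ℂ) else 0) - 1 := by
      intro c
      have e2 := AddChar.sum_apply_eq_ite (u * nm σ D.rel.cube c)
      have e3 : ∑ l : AddChar (fx σ) ℂ, l (u * nm σ D.rel.cube c) = if c = 0 then (Fintype.card (fx σ) : ℂ) else 0 := by
        rw [e2]
        by_cases hc : c = 0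
        · rw [if_pos hc, if_pos]
          rw [hc, (nm_eq_zero D.rel.cube).mpr rfl, mul_zero]
        · rw [if_neg hc, if_neg]
          rw [mul_eq_zero, not_or]
          exact ⟨hu, fun h' => hc ((nm_eq_zero D.rel.cube).mp h')⟩
      rw [← Finset.sum_erase_add _ _ (Finset.mem_univ (1 : AddChar (fx σ) ℂ)), AddChar.one_apply] at e3
      rw [← e3, add_sub_cancel_right]
    rw [Finset.sum_congr rfl fun c _ => e1 c, Finset.sum_sub_distrib, Finset.sum_ite_eq' Finset.univ (0 : E),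
      if_pos (Finset.mem_univ _), Finset.sum_const, Finset.card_univ, nsmul_eq_mul, mul_one]
  rcases eq_or_ne (Nat.card (fx σ)) 2 with h2 | h2
  · -- two elements
    have h2' : Fintype.card (fx σ) = 2 := by rw [← Nat.card_eq_fintype_card, h2]
    have hcard : (Finset.univ.erase (1 : AddChar (fx σ) ℂ)).card = 1 := by
      rw [Finset.card_erase_of_mem (Finset.mem_univ _), Finset.card_univ, card_addChar, h2']
    obtain ⟨l0, hl0⟩ := Finset.card_eq_one.mp hcard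
    have hl01 : l0 ≠ 1 := by
      have : l0 ∈ Finset.univ.erase (1 : AddChar (fx σ) ℂ) := by rw [hl0]; exact Finset.mem_singleton_self _
      exact Finset.ne_of_mem_erase this
    obtain ⟨ξ, -, hξ⟩ := hx l0 hl01
    have hu2 : u + u = 0 := by
      have h3 : (2 : fx σ) = 0 := by
        have := FiniteField.cast_card_eq_zero (fx σ)
        rw [h2'] at this
        exact_mod_cast this
      rw [← two_mul, h3, zero_mul]
    have hξu : ξ u = 1 ∨ ξ u = -1 := by
      have : ξ u * ξ u = 1 := by rw [← AddChar.map_add_eq_mul, hu2, AddChar.map_zero_eq_one]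
      exact mul_self_eq_one_iff.mp this
    rw [hl0, Finset.sum_singleton] at hsum
    rw [h1, hl0, Finset.sum_singleton, Finset.sum_congr rfl fun c _ => hξ u c, ← Finset.mul_sum, hsum]
    rcases hξu with h3 | h3
    · left; rw [h3, one_mul]
    · right; refine ⟨h2', ?_⟩; rw [h3]; ring
  · left
    rw [h1, ← hsum]
    refine Finset.sum_congr rfl fun l hl => Finset.sum_congr rfl fun c _ => ?_
    obtain ⟨ξ, hξ1, hξ⟩ := hx l (Finset.ne_of_mem_erase hl)
    rw [hξ, hξ1.resolve_right h2, AddChar.one_apply, one_mul]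

/-- **Lower bound for the degrees.** -/
theorem main (hρ : ∃ u : E, σ u = u ∧ ρ (x4 u) ≠ 1) :
    (Nat.card (fx σ) ^ 2 - 1) * Nat.card E + (Nat.card (fx σ) - 1) ≤ finrank ℂ V := by
  classical
  have hact := isAct ρ D
  rw [Nat.card_eq_fintype_card, Nat.card_eq_fintype_card]
  set q := Fintype.card (fx σ) with hq
  set e := Fintype.card E with he
  have hq2 : 2 ≤ q := Fintype.one_lt_card
  have he2 : q ≤ e := Fintype.card_le_of_injective _ Subtype.val_injective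
  have hS : (S σ).card + e = q ^ 2 * e := card_S_add
  have hS' : (q ^ 2 - 1) * e = (S σ).card := by
    rw [Nat.sub_mul, one_mul]; omega
  rw [hS']
  -- a big weight
  obtain ⟨u0, hu0, hu0'⟩ := hρ
  obtain ⟨χ₀, hχ₀, hχ₁⟩ := exists_wt hact (a := ((0 : fx σ), (0 : E), (⟨u0, hu0⟩ : fx σ))) (by
    rw [R, ← xx4 D]; exact hu0')
  have hbig : Big χ₀ := by
    intro hb
    apply hχ₁
    obtain ⟨l, μ, ν, rfl⟩ := exists_tri χ₀
    rw [tri, fc_pc, sc_pc, sc_pc] at hb
    rw [tri_apply, hb.2, AddChar.map_zero_eq_one, AddChar.map_zero_eq_one, AddChar.one_apply, one_mul, one_mul]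
  set r := finrank ℂ (wt (R (σ := σ) ρ x2 x3 x4) χ₀) with hr
  have hrpos : 1 ≤ r := by
    rw [Nat.one_le_iff_ne_zero]
    intro h0
    exact hχ₀ (Submodule.finrank_eq_zero.mp h0)
  have hall : ∀ χ ∈ S σ, finrank ℂ (wt (R (σ := σ) ρ x2 x3 x4) χ) = r := by
    intro χ hχ
    rw [mem_S] at hχ
    obtain ⟨l, μ, ν, rfl⟩ := exists_tri χ
    obtain ⟨l', μ', ν', h'⟩ := exists_tri χ₀
    rw [hr, h']
    rw [h'] at hbig
    exact mu_eq ρ D (big_tri.mp hχ) (big_tri.mp hbig)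
  have hle := mul_card_le hact (S σ) r (fun χ hχ => (hall χ hχ).ge)
  have hqS : q - 1 ≤ (S σ).card := by
    have h1 : q ≤ q ^ 2 * e - e := by
      have : q ^ 2 * e = (q ^ 2 - 1) * e + e := by
        rw [Nat.sub_mul, one_mul, Nat.sub_add_cancel]
        exact Nat.le_mul_of_pos_left _ (by positivity)
      have h2 : 1 * e ≤ (q ^ 2 - 1) * e := Nat.mul_le_mul_right _ (by
        have : 2 ^ 2 ≤ q ^ 2 := Nat.pow_le_pow_left hq2 2
        omega)
      omega
    omega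
  by_cases hr1 : r = 1
  swap
  · have hr2 : 2 ≤ r := by omega
    have : 2 * (S σ).card ≤ r * (S σ).card := Nat.mul_le_mul_right _ hr2
    omega
  rw [hr1] at hall
  -- projections
  set e0 : Module.End ℂ V := ∑ χ ∈ (S σ)ᶜ, pr (R (σ := σ) ρ x2 x3 x4) χ with he0
  set P : Module.End ℂ V := (q : ℂ)⁻¹ • ∑ u : fx σ, ρ (x6 (u : E)) with hP
  have hqne : (q : ℂ) ≠ 0 := by
    have : q ≠ 0 := by omega
    exact_mod_cast this
  have h6 : ∀ a b : fx σ, x6 ((a + b : fx σ) : E) = x6 (a : E) * x6 (b : E) := fun a b => by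
    rw [Subfield.coe_add]; exact D.rel.add6 a b a.2 b.2
  have hPP : ∀ b : fx σ, ρ (x6 (b : E)) * P = P := by
    intro b
    rw [hP, mul_smul_comm, Finset.mul_sum]
    congr 1
    refine Fintype.sum_equiv (Equiv.addLeft b) _ _ fun a => ?_
    rw [← map_mul, ← h6]
    rfl
  have hPP' : P * P = P := by
    conv_lhs => rw [hP]
    rw [smul_mul_assoc, Finset.sum_mul, Finset.sum_congr rfl fun b _ => hPP b, Finset.sum_const, Finset.card_univ,
      ← hq, ← Nat.cast_smul_eq_nsmul ℂ, smul_smul, inv_mul_cancel₀ hqne, one_smul]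
  have hee : e0 * e0 = e0 := by
    rw [he0, Finset.sum_mul]
    refine Finset.sum_congr rfl fun χ hχ => ?_
    rw [Finset.mul_sum, Finset.sum_eq_single χ]
    · exact pr_mul_self hact χ
    · intro χ' _ hne
      exact pr_mul_ne hact (Ne.symm hne)
    · intro h'; exact absurd hχ h'
  have hcom : ∀ u : fx σ, ρ (x6 (u : E)) * e0 = e0 * ρ (x6 (u : E)) := by
    intro u
    rw [he0, Finset.mul_sum, Finset.sum_mul]
    refine Finset.sum_congr rfl fun χ hχ => ?_
    obtain ⟨l, μ, ν, rfl⟩ := exists_tri χ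
    rw [Finset.mem_compl, mem_S, big_tri, not_not] at hχ
    obtain ⟨rfl, rfl⟩ := hχ
    refine map_pr ρ (g6 D.rel u) (bij6 u) fun p => ?_
    simp only [tri_apply, AddChar.one_apply]
  have hPe : P * e0 = e0 * P := by
    rw [hP, smul_mul_assoc, mul_smul_comm, Finset.sum_mul, Finset.mul_sum]
    congr 1
    exact Finset.sum_congr rfl fun u _ => hcom u
  have hM : P * e0 * (P * e0) = P * e0 := by
    rw [mul_assoc, ← mul_assoc e0, ← hPe, mul_assoc P e0 e0, hee, ← mul_assoc, hPP']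
  have hproj : LinearMap.IsProj (LinearMap.range (P * e0)) (P * e0) := by
    refine ⟨fun v => LinearMap.mem_range_self _ v, ?_⟩
    rintro v ⟨w, rfl⟩
    rw [← Module.End.mul_apply, hM]
  have htr := hproj.trace
  set N1 := finrank ℂ (LinearMap.range (P * e0)) with hN1
  -- traces
  have hsplit : ∀ T : Module.End ℂ V, LinearMap.trace ℂ V (T * e0) = LinearMap.trace ℂ V T -
      ∑ χ ∈ S σ, LinearMap.trace ℂ V (T * pr (R (σ := σ) ρ x2 x3 x4) χ) := by
    intro T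
    rw [trace_eq_sum hact T, ← Finset.sum_add_sum_compl (S σ), he0, Finset.mul_sum, map_sum]
    ring
  have ht0 : LinearMap.trace ℂ V e0 = (finrank ℂ V : ℂ) - (S σ).card := by
    have h1 := hsplit 1
    rw [one_mul, LinearMap.trace_one] at h1
    rw [h1]
    congr 1
    rw [Finset.card_eq_sum_ones]
    push_cast
    refine Finset.sum_congr rfl fun χ hχ => ?_
    rw [one_mul, trace_pr hact, hall χ hχ, Nat.cast_one]
  have hScast : ((S σ).card : ℂ) + e = (q : ℂ) ^ 2 * e := by exact_mod_cast hS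
  have htu : ∀ u : fx σ, u ≠ 0 → LinearMap.trace ℂ V (ρ (x6 (u : E)) * e0) = (finrank ℂ V : ℂ) - (S σ).card - q ∨
      (q = 2 ∧ LinearMap.trace ℂ V (ρ (x6 (u : E)) * e0) = (finrank ℂ V : ℂ) - (S σ).card - 2 * e + q) := by
    intro u hu
    obtain ⟨u', hu', hu0', hconj⟩ := D.conj u u.2 (fun h' => hu (Subtype.ext h'))
    have h1 := trace_eq_of_isConj ρ hconj
    have h2 := trace_x4 ρ D hall (u := ⟨u', hu'⟩) (fun h' => hu0' (congrArg Subtype.val h'))
    rw [hsplit, h1, h2]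
    rcases trace_big ρ D hall hu with h3 | ⟨h3, h4⟩
    · left
      rw [h3]
      linear_combination hScast
    · right
      refine ⟨h3, ?_⟩
      rw [h4]
      linear_combination hScast
  -- the trace of `P * e0`
  have hzero6 : x6 ((0 : fx σ) : E) = 1 := by
    have := h6 0 0
    rw [add_zero] at this
    exact mul_eq_left.mp this.symm
  have hPtr : (q : ℂ) * N1 = ((finrank ℂ V : ℂ) - (S σ).card) +
      ∑ u ∈ Finset.univ.erase (0 : fx σ), LinearMap.trace ℂ V (ρ (x6 (u : E)) * e0) := by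
    rw [← htr, hP, smul_mul_assoc, map_smul, smul_eq_mul, mul_inv_cancel_left₀ hqne, Finset.sum_mul, map_sum,
      ← Finset.sum_erase_add _ _ (Finset.mem_univ (0 : fx σ)), hzero6, map_one, one_mul, ht0]
    ring
  have hcard0 : (Finset.univ.erase (0 : fx σ)).card = q - 1 := by
    rw [Finset.card_erase_of_mem (Finset.mem_univ _), Finset.card_univ]
  by_cases hcase : ∀ u : fx σ, u ≠ 0 → LinearMap.trace ℂ V (ρ (x6 (u : E)) * e0) = (finrank ℂ V : ℂ) - (S σ).card - q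
  · rw [Finset.sum_congr rfl fun u hu => hcase u (Finset.ne_of_mem_erase hu), Finset.sum_const, hcard0,
      nsmul_eq_mul, Nat.cast_sub (by omega), Nat.cast_one] at hPtr
    have h1 : (N1 : ℂ) + (q - 1) + (S σ).card = finrank ℂ V := by
      apply mul_left_cancel₀ hqne
      linear_combination hPtr
    have h2 : N1 + (q - 1) + (S σ).card = finrank ℂ V := by
      have h3 : ((q - 1 : ℕ) : ℂ) = (q : ℂ) - 1 := by rw [Nat.cast_sub (by omega), Nat.cast_one]
      rw [← h3] at h1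
      exact_mod_cast h1
    omega
  · push Not at hcase
    obtain ⟨u, hu, hne⟩ := hcase
    obtain ⟨hq2', h1⟩ := (htu u hu).resolve_left hne
    have hs : Finset.univ.erase (0 : fx σ) = {u} := by
      rw [hq2'] at hcard0
      obtain ⟨a, ha⟩ := Finset.card_eq_one.mp hcard0
      have : u ∈ Finset.univ.erase (0 : fx σ) := Finset.mem_erase.mpr ⟨hu, Finset.mem_univ _⟩
      rw [ha, Finset.mem_singleton] at this
      rw [ha, this]
    rw [hs, Finset.sum_singleton, h1, hq2'] at hPtr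
    have h2 : (N1 : ℂ) + e + (S σ).card = (finrank ℂ V : ℂ) + 1 := by
      have h22 : (2 : ℂ) ≠ 0 := two_ne_zero
      apply mul_left_cancel₀ h22
      push_cast at hPtr
      linear_combination hPtr
    have h3 : N1 + e + (S σ).card = finrank ℂ V + 1 := by exact_mod_cast h2
    omega

end Trace

end Cfsg.Agent.H121.HexMin
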