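import Cfsg.Agent.H121.HexBase
import Cfsg.Agent.LieClassical.HermBasic
import Cfsg.Agent.ChevalleyStructure.FixedCard
import Cfsg.Agent.H121.HexMin
set_option linter.all false

-- part: H121/Quad
section
/-!
# Quadratic extensions of finite fields: trace, norm

`σ` an involutory automorphism of a finite field `K`, `F = fx σ` the fixed field; `T`, `N` the trace and the norm.
-/

set_option autoImplicit false

namespace Cfsg.Agent.H121.Quad

open Cfsg.Agent.H121.HexMin (fx mem_fx coe_fx)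

/-- an automorphism of order at most two -/
class Inv {K : Type*} [Field K] (σ : K ≃+* K) : Prop where
  inv : ∀ a, σ (σ a) = a

variable {K : Type*} [Field K] {σ : K ≃+* K}

theorem ss [Inv σ] (a : K) : σ (σ a) = a := Inv.inv a

section Defs

variable (σ) [Inv σ]

/-- the trace -/
def T (a : K) : fx σ := ⟨a + σ a, by rw [mem_fx, map_add, ss]; ring⟩

/-- the norm -/
def N (a : K) : fx σ := ⟨a * σ a, by rw [mem_fx, map_mul, ss]; ring⟩

end Defs

variable [Inv σ]

theorem coe_T (a : K) : (T σ a : K) = a + σ a := rfl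
theorem coe_N (a : K) : (N σ a : K) = a * σ a := rfl

theorem T_add (a b : K) : T σ (a + b) = T σ a + T σ b := by
  apply Subtype.ext
  rw [Subfield.coe_add, coe_T, coe_T, coe_T, map_add]; ring

theorem T_neg (a : K) : T σ (-a) = -T σ a := by
  apply Subtype.ext
  rw [Subfield.coe_neg, coe_T, coe_T, map_neg]; ring

theorem T_sub (a b : K) : T σ (a - b) = T σ a - T σ b := by
  rw [sub_eq_add_neg, T_add, T_neg, sub_eq_add_neg]

@[simp] theorem T_zero : T σ 0 = 0 := by
  apply Subtype.ext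
  rw [coe_T, map_zero, add_zero]; rfl

theorem T_smul (c : fx σ) (a : K) : T σ (c * a) = c * T σ a := by
  apply Subtype.ext
  rw [Subfield.coe_mul, coe_T, coe_T, map_mul, coe_fx]; ring

theorem T_coe (c : fx σ) : T σ (c : K) = 2 * c := by
  apply Subtype.ext
  rw [coe_T, coe_fx, Subfield.coe_mul]
  have : ((2 : fx σ) : K) = 2 := rfl
  rw [this]; ring

theorem T_conj (a : K) : T σ (σ a) = T σ a := by
  apply Subtype.ext
  rw [coe_T, coe_T, ss]; ring

theorem T_comm (a b : K) : T σ (a * σ b) = T σ (b * σ a) := by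
  rw [← T_conj (b * σ a), map_mul, ss, mul_comm]

@[simp] theorem N_zero : N σ 0 = 0 := by
  apply Subtype.ext
  rw [coe_N, zero_mul]; rfl

@[simp] theorem N_one : N σ 1 = 1 := by
  apply Subtype.ext
  rw [coe_N, map_one, one_mul]; rfl

theorem N_mul (a b : K) : N σ (a * b) = N σ a * N σ b := by
  apply Subtype.ext
  rw [Subfield.coe_mul, coe_N, coe_N, coe_N, map_mul]; ring

theorem N_neg (a : K) : N σ (-a) = N σ a := by
  apply Subtype.ext
  rw [coe_N, coe_N, map_neg]; ring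

theorem N_smul (c : fx σ) (a : K) : N σ (c * a) = c ^ 2 * N σ a := by
  apply Subtype.ext
  rw [Subfield.coe_mul, SubmonoidClass.coe_pow, coe_N, coe_N, map_mul, coe_fx]; ring

theorem N_add (a b : K) : N σ (a + b) = N σ a + T σ (a * σ b) + N σ b := by
  apply Subtype.ext
  rw [Subfield.coe_add, Subfield.coe_add, coe_N, coe_N, coe_N, coe_T, map_add, map_mul, ss]; ring

theorem N_sub (a b : K) : N σ (a - b) = N σ a - T σ (a * σ b) + N σ b := by
  apply Subtype.ext
  rw [Subfield.coe_add, Subfield.coe_sub, coe_N, coe_N, coe_N, coe_T, map_sub, map_mul, ss]; ring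

theorem N_eq_zero {a : K} : N σ a = 0 ↔ a = 0 := by
  constructor
  · intro h
    have h1 : a * σ a = 0 := congrArg Subtype.val h
    rcases mul_eq_zero.1 h1 with h1 | h1
    · exact h1
    · exact (map_eq_zero σ).1 h1
  · rintro rfl
    exact N_zero

section Fin

variable (hne : ∃ a : K, σ a ≠ a)

include hne

theorem exists_T_ne : ∃ a : K, T σ a ≠ 0 := by
  obtain ⟨a, ha⟩ := hne
  by_contra hcon
  push Not at hcon
  have h1 : ∀ b : K, σ b = -b := by
    intro b
    have := congrArg Subtype.val (hcon b)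
    rw [coe_T] at this
    exact (neg_eq_of_add_eq_zero_right this).symm
  have h2 : (2 : K) = 0 := by
    have := h1 1
    rw [map_one] at this
    linear_combination this
  apply ha
  rw [h1]
  linear_combination (-a) * h2

/-- the trace form is non-degenerate -/
theorem exists_T_mul_eq {z : K} (hz : z ≠ 0) (t : fx σ) : ∃ u : K, T σ (z * σ u) = t := by
  obtain ⟨a, ha⟩ := exists_T_ne hne
  refine ⟨σ (z⁻¹ * ((t / T σ a : fx σ) * a)), ?_⟩
  rw [ss, mul_inv_cancel_left₀ hz, T_smul, div_mul_cancel₀ _ ha]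

theorem exists_T_eq (t : fx σ) : ∃ u : K, T σ u = t := by
  obtain ⟨u, hu⟩ := exists_T_mul_eq hne one_ne_zero t
  exact ⟨σ u, by rw [one_mul] at hu; exact hu⟩

end Fin

section Card

variable [Finite K] {q : ℕ} (hK : Nat.card K = q ^ 2) (hσ : ∀ a, σ a = a ^ q)

include hK hσ

omit [Inv σ] in
theorem card_fx (hq : 1 < q) : Nat.card (fx σ) = q := by
  have := Fintype.ofFinite K
  have hK' : Fintype.card K = q ^ 2 := by rw [← Nat.card_eq_fintype_card, hK]
  have h := ChevalleyStructure.FixedCard.card_fixed hq hK'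
  rw [← h]
  exact Nat.card_congr (Equiv.subtypeEquivRight fun x => by rw [mem_fx, hσ])

omit [Inv σ] in
theorem exists_ne (hq : 1 < q) : ∃ a : K, σ a ≠ a := by
  by_contra hcon
  push Not at hcon
  have h1 := card_fx hK hσ hq
  have h2 : Nat.card (fx σ) = Nat.card K :=
    Nat.card_congr ⟨fun x => x.1, fun x => ⟨x, (mem_fx σ).2 (hcon x)⟩, fun _ => rfl, fun _ => rfl⟩
  rw [h1, hK] at h2
  nlinarith

theorem card_norm_eq {c : fx σ} (h0 : c ≠ 0) : Nat.card {x : K // N σ x = c} = q + 1 := by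
  classical
  have := Fintype.ofFinite K
  have hK' : Fintype.card K = q ^ 2 := by rw [← Nat.card_eq_fintype_card, hK]
  have h := LieClassical.HermBasic.card_norm_eq hK' (c := (c : K)) (by rw [← hσ, coe_fx])
    (fun h => h0 (Subtype.ext h))
  rw [← h]
  refine Nat.card_congr (Equiv.subtypeEquivRight fun x => ?_)
  rw [← Subtype.coe_inj, coe_N, hσ]

theorem exists_N_eq (c : fx σ) : ∃ x : K, N σ x = c := by
  by_cases h0 : c = 0
  · exact ⟨0, by rw [h0, N_zero]⟩
  · have h := card_norm_eq hK hσ h0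
    have : 0 < Nat.card {x : K // N σ x = c} := by omega
    rw [Nat.card_pos_iff] at this
    obtain ⟨⟨x, hx⟩⟩ := this.1
    exact ⟨x, hx⟩

end Card

end Cfsg.Agent.H121.Quad
end

-- part: H121/Orth
section
/-!
# Orthogonal spaces of minus type: transitivity

`VV ι σ = (ι → F × F) × K` with the quadratic form `Q (p, z) = ∑ xᵢ yᵢ + N z`; the maps `rp i u`, `rm i u` (Siegel
transformations). `const`: a function invariant under all `rp i u`, `rm i u` is constant on the sets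
`{v ≠ 0 | Q v = c}`.
-/

set_option autoImplicit false
set_option linter.unusedSectionVars false

namespace Cfsg.Agent.H121.Orth

open Cfsg.Agent.H121.HexMin (fx mem_fx coe_fx)
open Cfsg.Agent.H121.Quad

variable {K : Type*} [Field K]

/-- the space -/
abbrev VV (ι : Type*) (σ : K ≃+* K) : Type _ := (ι → fx σ × fx σ) × K

variable {σ : K ≃+* K} [Inv σ] {ι : Type*} [Fintype ι] [DecidableEq ι]

/-- the form of a hyperbolic plane -/
def hb (a b : fx σ × fx σ) : fx σ := a.1 * b.2 + a.2 * b.1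

/-- the quadratic form -/
def Q (v : VV ι σ) : fx σ := ∑ i, (v.1 i).1 * (v.1 i).2 + N σ v.2

/-- the polar form -/
def B (v w : VV ι σ) : fx σ := ∑ i, hb (v.1 i) (w.1 i) + T σ (v.2 * σ w.2)

/-- the transformation `rp i u` -/
def rp (i : ι) (u : K) (v : VV ι σ) : VV ι σ :=
  (Function.update v.1 i ((v.1 i).1 - T σ (v.2 * σ u) - N σ u * (v.1 i).2, (v.1 i).2), v.2 + (v.1 i).2 * u)

/-- the transformation `rm i u` -/
def rm (i : ι) (u : K) (v : VV ι σ) : VV ι σ :=
  (Function.update v.1 i ((v.1 i).1, (v.1 i).2 - T σ (v.2 * σ u) - N σ u * (v.1 i).1), v.2 + (v.1 i).1 * u)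

theorem sum_update {X M : Type*} [AddCommGroup M] (g : X → X → M) (v w : ι → X) (i : ι) (a b : X) :
    ∑ j, g (Function.update v i a j) (Function.update w i b j) = ∑ j, g (v j) (w j) + (g a b - g (v i) (w i)) := by
  rw [← Finset.add_sum_erase _ _ (Finset.mem_univ i), ← Finset.add_sum_erase _ _ (Finset.mem_univ i)]
  rw [Function.update_self, Function.update_self]
  have : ∑ j ∈ Finset.univ.erase i, g (Function.update v i a j) (Function.update w i b j) =
      ∑ j ∈ Finset.univ.erase i, g (v j) (w j) := by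
    refine Finset.sum_congr rfl fun j hj => ?_
    rw [Finset.mem_erase] at hj
    rw [Function.update_of_ne hj.1, Function.update_of_ne hj.1]
  rw [this]
  abel

theorem Q_rp (i : ι) (u : K) (v : VV ι σ) : Q (rp i u v) = Q v := by
  unfold Q rp
  have h := sum_update (fun a _ : fx σ × fx σ => a.1 * a.2) v.1 v.1 i
    ((v.1 i).1 - T σ (v.2 * σ u) - N σ u * (v.1 i).2, (v.1 i).2)
    ((v.1 i).1 - T σ (v.2 * σ u) - N σ u * (v.1 i).2, (v.1 i).2)
  dsimp only at h ⊢
  rw [h, N_add, N_smul, map_mul, coe_fx]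
  have e : v.2 * ((v.1 i).2 * σ u) = (v.1 i).2 * (v.2 * σ u) := by ring
  rw [e, T_smul]
  ring

theorem Q_rm (i : ι) (u : K) (v : VV ι σ) : Q (rm i u v) = Q v := by
  unfold Q rm
  have h := sum_update (fun a _ : fx σ × fx σ => a.1 * a.2) v.1 v.1 i
    ((v.1 i).1, (v.1 i).2 - T σ (v.2 * σ u) - N σ u * (v.1 i).1)
    ((v.1 i).1, (v.1 i).2 - T σ (v.2 * σ u) - N σ u * (v.1 i).1)
  dsimp only at h ⊢
  rw [h, N_add, N_smul, map_mul, coe_fx]
  have e : v.2 * ((v.1 i).1 * σ u) = (v.1 i).1 * (v.2 * σ u) := by ring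
  rw [e, T_smul]
  ring

theorem polar (v w : VV ι σ) : Q (v + w) = Q v + Q w + B v w := by
  unfold Q B hb
  simp only [Prod.fst_add, Prod.snd_add, Pi.add_apply, N_add]
  have : ∑ i, ((v.1 i).1 + (w.1 i).1) * ((v.1 i).2 + (w.1 i).2) =
      ∑ i, (v.1 i).1 * (v.1 i).2 + ∑ i, (w.1 i).1 * (w.1 i).2 +
        ∑ i, ((v.1 i).1 * (w.1 i).2 + (v.1 i).2 * (w.1 i).1) := by
    rw [← Finset.sum_add_distrib, ← Finset.sum_add_distrib]
    exact Finset.sum_congr rfl fun i _ => by ring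
  rw [this]
  ring

theorem B_eq (v w : VV ι σ) : B v w = Q (v + w) - Q v - Q w := by rw [polar]; ring

theorem rp_add (i : ι) (u : K) (v w : VV ι σ) : rp i u (v + w) = rp i u v + rp i u w := by
  unfold rp
  refine Prod.ext ?_ ?_
  · funext j
    by_cases hj : j = i
    · subst hj
      simp only [Prod.fst_add, Prod.snd_add, Pi.add_apply, Function.update_self, add_mul, T_add]
      refine Prod.ext ?_ rfl
      simp only [Prod.fst_add]
      ring
    · simp [Function.update_of_ne hj]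
  · simp only [Prod.fst_add, Prod.snd_add, Pi.add_apply, Subfield.coe_add]
    ring

theorem rm_add (i : ι) (u : K) (v w : VV ι σ) : rm i u (v + w) = rm i u v + rm i u w := by
  unfold rm
  refine Prod.ext ?_ ?_
  · funext j
    by_cases hj : j = i
    · subst hj
      simp only [Prod.fst_add, Prod.snd_add, Pi.add_apply, Function.update_self, add_mul, T_add]
      refine Prod.ext rfl ?_
      simp only [Prod.snd_add]
      ring
    · simp [Function.update_of_ne hj]
  · simp only [Prod.fst_add, Prod.snd_add, Pi.add_apply, Subfield.coe_add]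
    ring

theorem B_rp (i : ι) (u : K) (v w : VV ι σ) : B (rp i u v) (rp i u w) = B v w := by
  rw [B_eq, B_eq, ← rp_add, Q_rp, Q_rp, Q_rp]

theorem B_rm (i : ι) (u : K) (v w : VV ι σ) : B (rm i u v) (rm i u w) = B v w := by
  rw [B_eq, B_eq, ← rm_add, Q_rm, Q_rm, Q_rm]

theorem B_comm (v w : VV ι σ) : B v w = B w v := by
  rw [B_eq, B_eq, add_comm]; ring

theorem B_add (v w w' : VV ι σ) : B v (w + w') = B v w + B v w' := by
  unfold B
  simp only [Prod.fst_add, Prod.snd_add, Pi.add_apply, map_add, mul_add, T_add]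
  have : ∑ i, hb (v.1 i) (w.1 i + w'.1 i) = ∑ i, hb (v.1 i) (w.1 i) + ∑ i, hb (v.1 i) (w'.1 i) := by
    rw [← Finset.sum_add_distrib]
    refine Finset.sum_congr rfl fun i _ => ?_
    simp only [hb, Prod.fst_add, Prod.snd_add]
    ring
  rw [this]
  ring

theorem rp_neg_rp (i : ι) (u : K) (v : VV ι σ) : rp i (-u) (rp i u v) = v := by
  unfold rp
  refine Prod.ext ?_ ?_
  · simp only [Function.update_self, Function.update_idem]
    rw [Function.update_eq_self_iff]
    refine Prod.ext ?_ rfl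
    simp only [map_neg, mul_neg, T_neg, N_neg, add_mul, T_add]
    have : ((v.1 i).2 : K) * u * σ u = ((v.1 i).2 * N σ u : fx σ) := by
      rw [Subfield.coe_mul, coe_N]; ring
    rw [this]
    have h2 := T_coe (σ := σ) ((v.1 i).2 * N σ u)
    rw [h2]
    ring
  · simp only [Function.update_self]
    ring

theorem rm_neg_rm (i : ι) (u : K) (v : VV ι σ) : rm i (-u) (rm i u v) = v := by
  unfold rm
  refine Prod.ext ?_ ?_
  · simp only [Function.update_self, Function.update_idem]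
    rw [Function.update_eq_self_iff]
    refine Prod.ext rfl ?_
    simp only [map_neg, mul_neg, T_neg, N_neg, add_mul, T_add]
    have : ((v.1 i).1 : K) * u * σ u = ((v.1 i).1 * N σ u : fx σ) := by
      rw [Subfield.coe_mul, coe_N]; ring
    rw [this]
    have h2 := T_coe (σ := σ) ((v.1 i).1 * N σ u)
    rw [h2]
    ring
  · simp only [Function.update_self]
    ring

theorem rp_bijective (i : ι) (u : K) : Function.Bijective (rp i u : VV ι σ → VV ι σ) :=
  ⟨fun v w h => by rw [← rp_neg_rp i u v, h, rp_neg_rp], fun v => ⟨rp i (-u) v, by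
    have := rp_neg_rp i (-u) v
    rwa [neg_neg] at this⟩⟩

theorem rm_bijective (i : ι) (u : K) : Function.Bijective (rm i u : VV ι σ → VV ι σ) :=
  ⟨fun v w h => by rw [← rm_neg_rm i u v, h, rm_neg_rm], fun v => ⟨rm i (-u) v, by
    have := rm_neg_rm i (-u) v
    rwa [neg_neg] at this⟩⟩

/-! ### Transitivity -/

section Trans

variable {α : Type*} {f : VV ι σ → α} (hp : ∀ i u v, f (rp i u v) = f v) (hm : ∀ i u v, f (rm i u v) = f v)

include hp hm

/-- make `z = 0` -/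
theorem stepZ (i : ι) (v : VV ι σ) (hv : (v.1 i).1 ≠ 0) : ∃ w : VV ι σ, f w = f v ∧ Q w = Q v ∧ (w.1 i).1 = (v.1 i).1 ∧
    w.2 = 0 ∧ ∀ j, j ≠ i → w.1 j = v.1 j := by
  refine ⟨rm i (-(v.2 / (v.1 i).1)) v, hm _ _ _, Q_rm _ _ _, ?_, ?_, ?_⟩
  · simp [rm]
  · simp only [rm]
    have : ((v.1 i).1 : K) ≠ 0 := fun h => hv (Subtype.ext h)
    field_simp
    ring
  · intro j hj
    simp [rm, Function.update_of_ne hj]

variable (hne : ∃ a : K, σ a ≠ a) (hN : ∀ c : fx σ, ∃ x : K, N σ x = c)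

include hne hN

/-- clear the coordinates `j` -/
theorem clear (i j : ι) (hij : j ≠ i) (v : VV ι σ) (hv : (v.1 i).1 ≠ 0) (hz : v.2 = 0) : ∃ w : VV ι σ, f w = f v ∧
    Q w = Q v ∧ (w.1 i).1 = (v.1 i).1 ∧ w.2 = 0 ∧ w.1 j = 0 ∧ ∀ k, k ≠ i → k ≠ j → w.1 k = v.1 k := by
  -- the case `y j = 0`
  have main1 : ∀ v : VV ι σ, (v.1 i).1 ≠ 0 → v.2 = 0 → (v.1 j).2 = 0 → ∃ w : VV ι σ, f w = f v ∧
    Q w = Q v ∧ (w.1 i).1 = (v.1 i).1 ∧ w.2 = 0 ∧ w.1 j = 0 ∧ ∀ k, k ≠ i → k ≠ j → w.1 k = v.1 k := by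
    intro v hv hz hy
    have hv' : ((v.1 i).1 : K) ≠ 0 := fun h => hv (Subtype.ext h)
    obtain ⟨u, hu⟩ := exists_T_mul_eq hne hv' (v.1 j).1
    have hf1 := hp j u (rm i 1 v)
    have hQ1 := Q_rp j u (rm i 1 v)
    obtain ⟨w, h1, h2, h3, h4, h5⟩ := stepZ hp hm i (rp j u (rm i 1 v)) (by
      simp only [rp, rm]
      rw [Function.update_of_ne hij.symm, Function.update_self]
      exact hv)
    refine ⟨w, by rw [h1, hf1, hm], by rw [h2, hQ1, Q_rm], ?_, h4, ?_, ?_⟩
    · rw [h3]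
      simp [rp, rm, Function.update_of_ne hij.symm]
    · rw [h5 j hij]
      simp only [rp, rm, Function.update_self, Function.update_of_ne hij, hz, zero_add, mul_one, hu, hy, mul_zero,
        sub_self]
      rfl
    · intro k hk hkj
      rw [h5 k hk]
      simp [rp, rm, Function.update_of_ne hk, Function.update_of_ne hkj]
  have main2 : ∀ v : VV ι σ, (v.1 i).1 ≠ 0 → v.2 = 0 → (v.1 j).1 = 0 → ∃ w : VV ι σ, f w = f v ∧
    Q w = Q v ∧ (w.1 i).1 = (v.1 i).1 ∧ w.2 = 0 ∧ w.1 j = 0 ∧ ∀ k, k ≠ i → k ≠ j → w.1 k = v.1 k := by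
    intro v hv hz hy
    have hv' : ((v.1 i).1 : K) ≠ 0 := fun h => hv (Subtype.ext h)
    obtain ⟨u, hu⟩ := exists_T_mul_eq hne hv' (v.1 j).2
    have hf1 := hm j u (rm i 1 v)
    have hQ1 := Q_rm j u (rm i 1 v)
    obtain ⟨w, h1, h2, h3, h4, h5⟩ := stepZ hp hm i (rm j u (rm i 1 v)) (by
      simp only [rm]
      rw [Function.update_of_ne hij.symm, Function.update_self]
      exact hv)
    refine ⟨w, by rw [h1, hf1, hm], by rw [h2, hQ1, Q_rm], ?_, h4, ?_, ?_⟩
    · rw [h3]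
      simp [rm, Function.update_of_ne hij.symm]
    · rw [h5 j hij]
      simp only [rm, Function.update_self, Function.update_of_ne hij, hz, zero_add, mul_one, hu, hy, mul_zero,
        sub_self]
      rfl
    · intro k hk hkj
      rw [h5 k hk]
      simp [rm, Function.update_of_ne hk, Function.update_of_ne hkj]
  by_cases hy : (v.1 j).2 = 0
  · exact main1 v hv hz hy
  · have hy' : ((v.1 j).2 : K) ≠ 0 := fun h => hy (Subtype.ext h)
    obtain ⟨ω, hω⟩ := hN ((v.1 j).1 * (v.1 j).2)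
    have hNu : N σ (ω / (v.1 j).2) * (v.1 j).2 = (v.1 j).1 := by
      have e1 : ω = (v.1 j).2 * (ω / (v.1 j).2) := by field_simp
      rw [e1, N_smul] at hω
      apply mul_right_cancel₀ hy
      rw [← hω]; ring
    obtain ⟨w, h1, h2, h3, h4, h5⟩ := stepZ hp hm i (rp j (ω / (v.1 j).2) v) (by
      simp only [rp]
      rw [Function.update_of_ne hij.symm]
      exact hv)
    have h3' : (w.1 i).1 = (v.1 i).1 := by
      rw [h3]; simp [rp, Function.update_of_ne hij.symm]
    have hwj : (w.1 j).1 = 0 := by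
      rw [h5 j hij]
      simp only [rp, Function.update_self, hz, zero_mul, T_zero, sub_zero, hNu, sub_self]
    obtain ⟨w', g1, g2, g3, g4, g5, g6⟩ := main2 w (by rw [h3']; exact hv) h4 hwj
    refine ⟨w', by rw [g1, h1, hp], by rw [g2, h2, Q_rp], by rw [g3, h3'], g4, g5, ?_⟩
    intro k hk hkj
    rw [g6 k hk hkj, h5 k hk]
    simp [rp, Function.update_of_ne hkj]

/-- clear all coordinates but `i` -/
theorem clearAll (i : ι) (v : VV ι σ) (hv : (v.1 i).1 ≠ 0) : ∃ w : VV ι σ, f w = f v ∧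
    Q w = Q v ∧ (w.1 i).1 = (v.1 i).1 ∧ w.2 = 0 ∧ ∀ j, j ≠ i → w.1 j = 0 := by
  suffices H : ∀ S : Finset ι, i ∉ S → ∃ w : VV ι σ, f w = f v ∧
      Q w = Q v ∧ (w.1 i).1 = (v.1 i).1 ∧ w.2 = 0 ∧ ∀ j ∈ S, w.1 j = 0 by
    obtain ⟨w, h1, h2, h3, h4, h5⟩ := H (Finset.univ.erase i) (Finset.notMem_erase _ _)
    exact ⟨w, h1, h2, h3, h4, fun j hj => h5 j (Finset.mem_erase.2 ⟨hj, Finset.mem_univ _⟩)⟩
  intro S
  induction S using Finset.induction_on with
  | empty =>
    intro _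
    obtain ⟨w, h1, h2, h3, h4, _⟩ := stepZ hp hm i v hv
    exact ⟨w, h1, h2, h3, h4, by simp⟩
  | insert j S hj ih =>
    intro hi
    rw [Finset.mem_insert, not_or] at hi
    obtain ⟨w, h1, h2, h3, h4, h5⟩ := ih hi.2
    obtain ⟨w', g1, g2, g3, g4, g5, g6⟩ := clear hp hm hne hN i j (Ne.symm hi.1) w (by rw [h3]; exact hv) h4
    refine ⟨w', by rw [g1, h1], by rw [g2, h2], by rw [g3, h3], g4, ?_⟩
    intro k hk
    rw [Finset.mem_insert] at hk
    by_cases hkj : k = j
    · rw [hkj, g5]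
    · have hkS := hk.resolve_left hkj
      rw [g6 k (fun h => hi.2 (h ▸ hkS)) hkj, h5 k hkS]

/-- the representatives -/
def cc (i : ι) (c : fx σ) : VV ι σ := (Pi.single i (1, c), 0)

omit hp hm hne hN in
theorem Q_cc (i : ι) (c : fx σ) : Q (cc i c) = c := by
  unfold Q cc
  rw [Finset.sum_eq_single i]
  · simp
  · intro j _ hj
    simp [Pi.single_eq_of_ne hj]
  · simp

/-- normal form of vectors with `x i ≠ 0` -/
theorem normal (i : ι) (v : VV ι σ) (hv : (v.1 i).1 ≠ 0) : f v = f (cc i (Q v)) := by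
  obtain ⟨w, h1, h2, h3, h4, h5⟩ := clearAll hp hm hne hN i v hv
  have hwi : (w.1 i).1 ≠ 0 := by rw [h3]; exact hv
  have hwi' : ((w.1 i).1 : K) ≠ 0 := fun h => hwi (Subtype.ext h)
  -- it suffices to reach a vector with `x i = 1` and zero outside of `i`
  have key : ∀ w' : VV ι σ, f w' = f v → Q w' = Q v → (w'.1 i).1 = 1 → (∀ j, j ≠ i → w'.1 j = 0) →
      f v = f (cc i (Q v)) := by
    intro w' g1 g2 g3 g5
    obtain ⟨w'', k1, k2, k3, k4, k5⟩ := stepZ hp hm i w' (by rw [g3]; exact one_ne_zero)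
    have hw'' : w'' = cc i (Q v) := by
      have hx : (w''.1 i).1 = 1 := by rw [k3, g3]
      have h0 : ∀ j, j ≠ i → w''.1 j = 0 := fun j hj => by rw [k5 j hj, g5 j hj]
      have hQ : Q w'' = Q v := by rw [k2, g2]
      have hy : (w''.1 i).2 = Q v := by
        rw [← hQ]
        unfold Q
        rw [Finset.sum_eq_single i, hx, k4, N_zero, add_zero, one_mul]
        · intro j _ hj
          rw [h0 j hj]; simp
        · simp
      refine Prod.ext ?_ k4
      funext j
      by_cases hj : j = i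
      · subst hj
        simp only [cc, Pi.single_eq_same]
        exact Prod.ext hx hy
      · simp only [cc, Pi.single_eq_of_ne hj]
        exact h0 j hj
    rw [← hw'', k1, g1]
  by_cases hy : (w.1 i).2 = 0
  · obtain ⟨ω, hω⟩ := hN ((w.1 i).1)⁻¹
    refine key (rp i (1 - ω) (rm i 1 w)) (by rw [hp, hm, h1]) (by rw [Q_rp, Q_rm, h2]) ?_ ?_
    · simp only [rp, rm, Function.update_self, h4, hy, map_sub, map_one, zero_add, mul_one, N_sub, N_one, hω, one_mul,
        T_zero, zero_sub, sub_zero]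
      rw [mul_sub, mul_one, T_sub, T_smul]
      have e1 : T σ ((w.1 i).1 : K) = (w.1 i).1 * T σ 1 := by rw [← T_smul, mul_one]
      have e2 : T σ (σ ω) = T σ ω := T_conj _
      rw [e1, e2]
      have e3 : (w.1 i).1 * (w.1 i).1⁻¹ = 1 := mul_inv_cancel₀ hwi
      have e4 : T σ (1 : K) = 2 := by
        apply Subtype.ext
        rw [coe_T, map_one]
        have : ((2 : fx σ) : K) = 2 := rfl
        rw [this]; ring
      rw [e4]
      linear_combination e3
    · intro j hj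
      simp [rp, rm, Function.update_of_ne hj, h5 j hj]
  · obtain ⟨u, hu⟩ := hN ((w.1 i).2 / (w.1 i).1)
    have hu0 : u ≠ 0 := by
      rintro rfl
      rw [N_zero] at hu
      exact (div_ne_zero hy hwi) hu.symm
    obtain ⟨u', hu'⟩ := exists_T_mul_eq hne (mul_ne_zero hwi' hu0) ((w.1 i).1 - 1)
    refine key (rp i u' (rm i u w)) (by rw [hp, hm, h1]) (by rw [Q_rp, Q_rm, h2]) ?_ ?_
    · simp only [rp, rm, Function.update_self, h4, zero_add, zero_mul, T_zero, sub_zero, hu, hu']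
      rw [div_mul_cancel₀ _ hwi]
      ring
    · intro j hj
      simp [rp, rm, Function.update_of_ne hj, h5 j hj]

/-- make `x i ≠ 0` -/
theorem exists_x_ne (i : ι) (v : VV ι σ) (hv : v ≠ 0) : ∃ w : VV ι σ, f w = f v ∧ Q w = Q v ∧ (w.1 i).1 ≠ 0 := by
  by_cases hx : (v.1 i).1 = 0
  swap
  · exact ⟨v, rfl, rfl, hx⟩
  -- the case `z ≠ 0`
  have main : ∀ v : VV ι σ, (v.1 i).1 = 0 → v.2 ≠ 0 → ∃ w : VV ι σ, f w = f v ∧ Q w = Q v ∧ (w.1 i).1 ≠ 0 := by
    intro v hx hz
    by_cases hy : (v.1 i).2 = 0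
    · obtain ⟨u, hu⟩ := exists_T_mul_eq hne hz 1
      refine ⟨rp i u v, hp _ _ _, Q_rp _ _ _, ?_⟩
      simp [rp, hx, hy, hu]
    · have hy' : ((v.1 i).2 : K) ≠ 0 := fun h => hy (Subtype.ext h)
      refine ⟨rp i (-(v.2 / (v.1 i).2)) v, hp _ _ _, Q_rp _ _ _, ?_⟩
      simp only [rp, Function.update_self, hx, zero_sub, N_neg]
      have e1 : v.2 * σ (-(v.2 / (v.1 i).2)) = -((v.1 i).2⁻¹ * N σ v.2 : fx σ) := by
        rw [Subfield.coe_mul, Subfield.coe_inv, coe_N, map_neg, map_div₀, coe_fx]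
        field_simp
      have e2 : v.2 / (v.1 i).2 = (((v.1 i).2⁻¹ : fx σ) : K) * v.2 := by
        rw [Subfield.coe_inv]; field_simp
      have e3 := T_coe (σ := σ) ((v.1 i).2⁻¹ * N σ v.2)
      rw [e1, T_neg, e3, e2, N_smul]
      have e4 : - -(2 * ((v.1 i).2⁻¹ * N σ v.2)) - ((v.1 i).2⁻¹) ^ 2 * N σ v.2 * (v.1 i).2 =
          (v.1 i).2⁻¹ * N σ v.2 := by
        field_simp
        ring
      rw [e4]
      exact mul_ne_zero (inv_ne_zero hy) (fun h => hz (N_eq_zero.1 h))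
  by_cases hz : v.2 = 0
  swap
  · exact main v hx hz
  -- `z = 0`: some `v.1 j ≠ 0`
  obtain ⟨j, hj⟩ : ∃ j, v.1 j ≠ 0 := by
    by_contra hcon
    push Not at hcon
    exact hv (Prod.ext (funext hcon) hz)
  by_cases hyj : (v.1 j).2 = 0
  · have hxj : (v.1 j).1 ≠ 0 := fun h => hj (Prod.ext h hyj)
    have hij : i ≠ j := fun h => hxj (h ▸ hx)
    obtain ⟨w, h1, h2, h3⟩ := main (rm j 1 v) (by simp [rm, Function.update_of_ne hij, hx]) (by
      simp only [rm, hz, zero_add, mul_one]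
      exact fun h => hxj (Subtype.ext h))
    exact ⟨w, by rw [h1, hm], by rw [h2, Q_rm], h3⟩
  · by_cases hij : i = j
    · subst hij
      refine ⟨rp i 1 v, hp _ _ _, Q_rp _ _ _, ?_⟩
      simp [rp, hx, hz, hyj]
    · obtain ⟨w, h1, h2, h3⟩ := main (rp j 1 v) (by simp [rp, Function.update_of_ne hij, hx]) (by
        simp only [rp, hz, zero_add, mul_one]
        exact fun h => hyj (Subtype.ext h))
      exact ⟨w, by rw [h1, hp], by rw [h2, Q_rp], h3⟩

/-- **Transitivity.** -/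
theorem const (i : ι) (v : VV ι σ) (hv : v ≠ 0) : f v = f (cc i (Q v)) := by
  obtain ⟨w, h1, h2, h3⟩ := exists_x_ne hp hm hne hN i v hv
  rw [← h1, ← h2]
  exact normal hp hm hne hN i w h3

end Trans

end Cfsg.Agent.H121.Orth
end

-- part: H121/OrthMod
section
/-!
# Orthogonal spaces of minus type: numbers of vectors, characters, modules

`card_Q_zero`, `card_Q_ne`: the numbers of vectors with `Q v = c`; `chr l v`: the characters of `VV ι σ`;
`Inva`: invariance of a family of operators; `finrank_eq_wt`: the multiplicities depend on `Q v` only.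
-/

set_option autoImplicit false
set_option linter.unusedSectionVars false

namespace Cfsg.Agent.H121.Orth

open Module
open Cfsg.Agent.H121.HexMin (fx mem_fx coe_fx)
open Cfsg.Agent.H121.Quad Cfsg.Agent.H121.Wt Cfsg.Agent.H121.Chr

variable {K : Type*} [Field K] {σ : K ≃+* K} [Inv σ]

/-! ### Counting -/

section Count

open Finset

theorem card_hyp {F : Type*} [Field F] [Fintype F] [DecidableEq F] (d : F) :
    (∑ p : F × F, if p.1 * p.2 = d then 1 else 0) = (Fintype.card F - 1) + if d = 0 then Fintype.card F else 0 := by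
  rw [Fintype.sum_prod_type]
  have h1 : ∀ x : F, (∑ y : F, if (x, y).1 * (x, y).2 = d then 1 else 0) =
      if x = 0 then (if d = 0 then Fintype.card F else 0) else 1 := by
    intro x
    by_cases hx : x = 0
    · subst hx
      simp only [zero_mul, if_true]
      by_cases hd : d = 0
      · subst hd
        simp
      · simp [hd, Ne.symm hd]
    · rw [if_neg hx]
      rw [Finset.sum_eq_single (d / x)]
      · rw [if_pos]
        field_simp
      · intro y _ hy
        rw [if_neg]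
        intro h
        apply hy
        simp only at h
        rw [← h]
        field_simp
      · simp
  rw [Finset.sum_congr rfl fun x _ => h1 x]
  rw [← Finset.add_sum_erase _ _ (Finset.mem_univ (0 : F)), if_pos rfl]
  have h2 : ∑ x ∈ Finset.univ.erase (0 : F), (if x = 0 then (if d = 0 then Fintype.card F else 0) else 1) =
      ∑ x ∈ Finset.univ.erase (0 : F), 1 :=
    Finset.sum_congr rfl fun x hx => if_neg (Finset.mem_erase.1 hx).1
  rw [h2, Finset.sum_const, Finset.card_erase_of_mem (Finset.mem_univ _), Finset.card_univ, smul_eq_mul, mul_one]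
  ring

variable [Fintype K]

/-- the number of vectors with `Q v = c` -/
noncomputable def cnt (σ : K ≃+* K) [Inv σ] (m : ℕ) (c : fx σ) : ℕ := by
  classical exact ∑ v : VV (Fin m) σ, if Q v = c then 1 else 0

theorem Q_fin_zero (v : VV (Fin 0) σ) : Q v = N σ v.2 := by
  unfold Q
  rw [Finset.univ_eq_empty, Finset.sum_empty, zero_add]

theorem cnt_eq_card (m : ℕ) (c : fx σ) : cnt σ m c = Nat.card {v : VV (Fin m) σ // Q v = c} := by
  classical
  rw [Nat.card_eq_fintype_card, Fintype.card_subtype, Finset.card_filter]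
  rfl

theorem card_VV (m : ℕ) : Fintype.card (VV (Fin m) σ) = (Fintype.card (fx σ)) ^ (2 * m) * Fintype.card K := by
  rw [Fintype.card_prod, Fintype.card_fun, Fintype.card_prod, Fintype.card_fin, pow_mul, sq]

/-- splitting off a hyperbolic plane -/
def split (m : ℕ) (σ : K ≃+* K) : VV (Fin (m + 1)) σ ≃ VV (Fin m) σ × (fx σ × fx σ) where
  toFun v := ((fun i => v.1 i.succ, v.2), v.1 0)
  invFun w := (Fin.cons w.2 w.1.1, w.1.2)
  left_inv v := by
    refine Prod.ext ?_ rfl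
    funext i
    refine Fin.cases ?_ (fun i => ?_) i
    · rfl
    · rfl
  right_inv w := by
    refine Prod.ext (Prod.ext ?_ rfl) rfl
    funext i
    rfl

theorem cnt_succ (m : ℕ) (c : fx σ) : cnt σ (m + 1) c =
    Fintype.card (VV (Fin m) σ) * (Fintype.card (fx σ) - 1) + Fintype.card (fx σ) * cnt σ m c := by
  classical
  have h1 : cnt σ (m + 1) c = ∑ w : VV (Fin m) σ × (fx σ × fx σ), if w.2.1 * w.2.2 = c - Q w.1 then 1 else 0 := by
    unfold cnt
    refine Fintype.sum_equiv (split m σ) _ _ fun v => ?_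
    have e : Q v = (v.1 0).1 * (v.1 0).2 + Q ((split m σ v).1) := by
      unfold Q split
      rw [Fin.sum_univ_succ]
      simp only [Equiv.coe_fn_mk]
      ring
    rw [e]
    congr 1
    rw [eq_iff_iff]
    show _ ↔ (v.1 0).1 * (v.1 0).2 = _
    constructor
    · intro h; rw [← h]; ring
    · intro h; rw [h]; ring
  rw [h1, Fintype.sum_prod_type]
  have h2 : ∀ w : VV (Fin m) σ, (∑ p : fx σ × fx σ, if (w, p).2.1 * (w, p).2.2 = c - Q (w, p).1 then 1 else 0) =
      (Fintype.card (fx σ) - 1) + if Q w = c then Fintype.card (fx σ) else 0 := by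
    intro w
    have h := card_hyp (c - Q w)
    simp only at h ⊢
    rw [h]
    congr 1
    by_cases hw : Q w = c
    · rw [if_pos hw, if_pos (by rw [hw, sub_self])]
    · rw [if_neg hw, if_neg (fun h => hw (sub_eq_zero.1 h).symm)]
  rw [Finset.sum_congr rfl fun w _ => h2 w, Finset.sum_add_distrib, Finset.sum_const, Finset.card_univ, smul_eq_mul]
  congr 1
  unfold cnt
  rw [Finset.mul_sum]
  refine Finset.sum_congr rfl fun w _ => ?_
  by_cases hw : Q w = c
  · rw [if_pos hw, if_pos hw, mul_one]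
  · rw [if_neg hw, if_neg hw, mul_zero]

variable {q : ℕ} (hK : Nat.card K = q ^ 2) (hσ : ∀ a, σ a = a ^ q) (hq : 1 < q)

include hK hσ hq

theorem card_F : Fintype.card (fx σ) = q := by rw [← Nat.card_eq_fintype_card, card_fx hK hσ hq]

theorem cnt_zero_zero : cnt σ 0 0 = 1 := by
  rw [cnt_eq_card, Nat.card_eq_one_iff_unique]
  refine ⟨⟨fun a b => ?_⟩, ⟨⟨0, ?_⟩⟩⟩
  · have key : ∀ v : VV (Fin 0) σ, Q v = 0 → v = 0 := by
      intro v hv
      unfold Q at hv
      rw [Finset.univ_eq_empty, Finset.sum_empty, zero_add] at hv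
      exact Prod.ext (Subsingleton.elim _ _) (N_eq_zero.1 hv)
    exact Subtype.ext ((key _ a.2).trans (key _ b.2).symm)
  · simp [Q]

theorem cnt_zero_ne {c : fx σ} (hc : c ≠ 0) : cnt σ 0 c = q + 1 := by
  rw [cnt_eq_card, ← card_norm_eq hK hσ hc]
  refine Nat.card_congr ⟨fun v => ⟨v.1.2, ?_⟩, fun x => ⟨(fun i => i.elim0, x.1), ?_⟩, fun v => ?_, fun x => ?_⟩
  · rw [← Q_fin_zero]
    exact v.2
  · rw [Q_fin_zero]
    exact x.2
  · exact Subtype.ext (Prod.ext (Subsingleton.elim _ _) rfl)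
  · rfl

/-- the number of singular vectors -/
theorem cnt_zero (m : ℕ) : cnt σ m 0 + q ^ (m + 1) = q ^ (2 * m + 1) + q ^ m := by
  induction m with
  | zero => rw [cnt_zero_zero hK hσ hq]; ring
  | succ m ih =>
    rw [cnt_succ, card_F hK hσ hq, card_VV, card_F hK hσ hq, ← Nat.card_eq_fintype_card (α := K), hK]
    obtain ⟨r, rfl⟩ : ∃ r, q = r + 1 := ⟨q - 1, by omega⟩
    rw [Nat.add_sub_cancel]
    have : (r + 1) ^ (2 * m) * (r + 1) ^ 2 * r + (r + 1) * cnt σ m 0 + (r + 1) ^ (m + 1 + 1) =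
        (r + 1) ^ (2 * m) * (r + 1) ^ 2 * r + (r + 1) * (cnt σ m 0 + (r + 1) ^ (m + 1)) := by ring
    rw [this, ih]
    ring

/-- the number of vectors of a given norm -/
theorem cnt_ne (m : ℕ) {c : fx σ} (hc : c ≠ 0) : cnt σ m c = q ^ (2 * m + 1) + q ^ m := by
  induction m with
  | zero => rw [cnt_zero_ne hK hσ hq hc]; ring
  | succ m ih =>
    rw [cnt_succ, card_F hK hσ hq, card_VV, card_F hK hσ hq, ← Nat.card_eq_fintype_card (α := K), hK, ih]
    obtain ⟨r, rfl⟩ : ∃ r, q = r + 1 := ⟨q - 1, by omega⟩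
    rw [Nat.add_sub_cancel]
    ring

end Count

/-! ### Characters -/

section Char

variable {ι : Type*} [Fintype ι] [DecidableEq ι]

theorem Q_zero : Q (0 : VV ι σ) = 0 := by
  unfold Q
  simp

theorem B_zero (v : VV ι σ) : B v 0 = 0 := by
  have h := B_add v 0 0
  rw [add_zero] at h
  exact (left_eq_add.1 h)

/-- the character `a ↦ l (B v a)` -/
def chr (l : AddChar (fx σ) ℂ) (v : VV ι σ) : AddChar (VV ι σ) ℂ where
  toFun a := l (B v a)
  map_zero_eq_one' := by rw [B_zero, AddChar.map_zero_eq_one]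
  map_add_eq_mul' a b := by rw [B_add, AddChar.map_add_eq_mul]

theorem chr_apply (l : AddChar (fx σ) ℂ) (v a : VV ι σ) : chr l v a = l (B v a) := rfl

theorem B_add_left (v v' w : VV ι σ) : B (v + v') w = B v w + B v' w := by
  rw [B_comm, B_add, B_comm w, B_comm w]

theorem B_sub_left (v v' w : VV ι σ) : B (v - v') w = B v w - B v' w := by
  have h := B_add_left (v - v') v' w
  rw [sub_add_cancel] at h
  rw [h]; ring

/-- coordinates of `v` as values of the form -/
theorem B_x (i : ι) (v : VV ι σ) (s : fx σ) : B v (Pi.single i (0, s), 0) = (v.1 i).1 * s := by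
  unfold B hb
  rw [Finset.sum_eq_single i]
  · simp
  · intro j _ hj
    simp [Pi.single_eq_of_ne hj]
  · simp

theorem B_y (i : ι) (v : VV ι σ) (s : fx σ) : B v (Pi.single i (s, 0), 0) = (v.1 i).2 * s := by
  unfold B hb
  rw [Finset.sum_eq_single i]
  · simp
  · intro j _ hj
    simp [Pi.single_eq_of_ne hj]
  · simp

theorem B_z (v : VV ι σ) (z : K) : B v (0, z) = T σ (v.2 * σ z) := by
  unfold B hb
  simp

theorem exists_B_eq (hne : ∃ a : K, σ a ≠ a) {v : VV ι σ} (hv : v ≠ 0) (t : fx σ) : ∃ a, B v a = t := by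
  by_cases hz : v.2 = 0
  · obtain ⟨j, hj⟩ : ∃ j, v.1 j ≠ 0 := by
      by_contra hcon
      push Not at hcon
      exact hv (Prod.ext (funext hcon) hz)
    by_cases hy : (v.1 j).2 = 0
    · have hx : (v.1 j).1 ≠ 0 := fun h => hj (Prod.ext h hy)
      exact ⟨(Pi.single j (0, t / (v.1 j).1), 0), by rw [B_x, mul_div_cancel₀ _ hx]⟩
    · exact ⟨(Pi.single j (t / (v.1 j).2, 0), 0), by rw [B_y, mul_div_cancel₀ _ hy]⟩
  · obtain ⟨u, hu⟩ := exists_T_mul_eq hne hz t
    exact ⟨(0, u), by rw [B_z, hu]⟩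

theorem chr_injective [Fintype K] (hne : ∃ a : K, σ a ≠ a) {l : AddChar (fx σ) ℂ} (hl : l ≠ 1) :
    Function.Injective (chr l : VV ι σ → AddChar (VV ι σ) ℂ) := by
  intro v v' h
  by_contra hvv
  apply hl
  apply DFunLike.ext
  intro t
  obtain ⟨a, ha⟩ := exists_B_eq hne (sub_ne_zero.2 hvv) t
  have h1 : chr l v a = chr l v' a := by rw [h]
  rw [chr_apply, chr_apply] at h1
  rw [← ha, B_sub_left, sub_eq_add_neg, AddChar.map_add_eq_mul, AddChar.map_neg_eq_inv, h1, AddChar.one_apply]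
  exact mul_inv_cancel₀ (ne_zero' _ _)

theorem chr_bijective [Fintype K] (hne : ∃ a : K, σ a ≠ a) {l : AddChar (fx σ) ℂ} (hl : l ≠ 1) :
    Function.Bijective (chr l : VV ι σ → AddChar (VV ι σ) ℂ) :=
  (Fintype.bijective_iff_injective_and_card _).2 ⟨chr_injective hne hl, (card_addChar _).symm⟩

theorem chr_zero (l : AddChar (fx σ) ℂ) : chr l (0 : VV ι σ) = 1 := by
  apply DFunLike.ext
  intro a
  rw [chr_apply, B_comm, B_zero, AddChar.map_zero_eq_one, AddChar.one_apply]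

theorem chr_rp (l : AddChar (fx σ) ℂ) (i : ι) (u : K) (v a : VV ι σ) :
    chr l (rp i u v) (rp i u a) = chr l v a := by rw [chr_apply, chr_apply, B_rp]

theorem chr_rm (l : AddChar (fx σ) ℂ) (i : ι) (u : K) (v a : VV ι σ) :
    chr l (rm i u v) (rm i u a) = chr l v a := by rw [chr_apply, chr_apply, B_rm]

end Char

/-! ### Modules -/

section Mod

variable {ι : Type*} [Fintype ι] [DecidableEq ι] {W : Type*} [AddCommGroup W] [Module ℂ W] [FiniteDimensional ℂ W]

/-- invariance of a family of operators -/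
structure Inva (R : VV ι σ → End ℂ W) : Prop where
  act : IsAct R
  p : ∀ i u, ∃ S S' : End ℂ W, S' * S = 1 ∧ ∀ a, S * R a = R (rp i u a) * S
  m : ∀ i u, ∃ S S' : End ℂ W, S' * S = 1 ∧ ∀ a, S * R a = R (rm i u a) * S

theorem map_wt_of {R : VV ι σ → End ℂ W} {S : End ℂ W} {f : VV ι σ → VV ι σ} (hf : Function.Surjective f)
    (hS : ∀ a, S * R a = R (f a) * S) {χ χ' : AddChar (VV ι σ) ℂ} (hχ : ∀ a, χ' (f a) = χ a) {w : W}
    (hw : w ∈ wt R χ) : S w ∈ wt R χ' := by
  intro b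
  obtain ⟨a, rfl⟩ := hf b
  rw [← Module.End.mul_apply, ← hS, Module.End.mul_apply, hw a, map_smul, hχ]

variable {R : VV ι σ → End ℂ W} (h : Inva R) (l : AddChar (fx σ) ℂ)

/-- the multiplicity of the weight `chr l v` -/
noncomputable def mu (R : VV ι σ → End ℂ W) (l : AddChar (fx σ) ℂ) (v : VV ι σ) : ℕ := finrank ℂ (wt R (chr l v))

include h

theorem mu_rp (i : ι) (u : K) (v : VV ι σ) : mu R l (rp i u v) = mu R l v := by
  have key : ∀ (u : K) (v : VV ι σ), mu R l v ≤ mu R l (rp i u v) := by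
    intro u v
    obtain ⟨S, S', h1, h2⟩ := h.p i u
    exact finrank_wt_le h1 fun w hw => map_wt_of (rp_bijective i u).2 h2 (fun a => chr_rp l i u v a) hw
  apply le_antisymm _ (key u v)
  have := key (-u) (rp i u v)
  rwa [rp_neg_rp] at this

theorem mu_rm (i : ι) (u : K) (v : VV ι σ) : mu R l (rm i u v) = mu R l v := by
  have key : ∀ (u : K) (v : VV ι σ), mu R l v ≤ mu R l (rm i u v) := by
    intro u v
    obtain ⟨S, S', h1, h2⟩ := h.m i u
    exact finrank_wt_le h1 fun w hw => map_wt_of (rm_bijective i u).2 h2 (fun a => chr_rm l i u v a) hw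
  apply le_antisymm _ (key u v)
  have := key (-u) (rm i u v)
  rwa [rm_neg_rm] at this

variable (hne : ∃ a : K, σ a ≠ a) (hN : ∀ c : fx σ, ∃ x : K, N σ x = c)

include hne hN

theorem mu_eq (i : ι) {v : VV ι σ} (hv : v ≠ 0) : mu R l v = mu R l (cc i (Q v)) :=
  const (f := mu R l) (mu_rp h l) (mu_rm h l) hne hN i v hv

end Mod

section Mod2

variable {W : Type*} [AddCommGroup W] [Module ℂ W] [FiniteDimensional ℂ W] [Fintype K] {q m : ℕ}
  (hK : Nat.card K = q ^ 2) (hσ : ∀ a, σ a = a ^ q) (hq : 1 < q)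
  {R : VV (Fin m) σ → End ℂ W} (h : Inva R) {l : AddChar (fx σ) ℂ} (hl : l ≠ 1)

include hK hσ hq h hl

theorem sum_mu : ∑ v : VV (Fin m) σ, mu R l v = finrank ℂ W := by
  rw [← sum_finrank h.act]
  exact Fintype.sum_bijective _ (chr_bijective (exists_ne hK hσ hq) hl) _ _ fun v => rfl

/-- singular weights -/
theorem le_of_sing (i : Fin m) {r : ℕ} (hr : r ≤ mu R l (cc i 0)) :
    mu R l 0 + r * (cnt σ m 0 - 1) ≤ finrank ℂ W := by
  classical
  rw [← sum_mu hK hσ hq h hl, ← Finset.add_sum_erase _ _ (Finset.mem_univ 0)]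
  refine Nat.add_le_add_left ?_ _
  have hcard : cnt σ m 0 - 1 = ((Finset.univ.filter fun v : VV (Fin m) σ => Q v = 0).erase 0).card := by
    rw [Finset.card_erase_of_mem (by rw [Finset.mem_filter]; exact ⟨Finset.mem_univ _, Q_zero⟩), Finset.card_filter]
    rfl
  rw [hcard, mul_comm, ← smul_eq_mul, ← Finset.sum_const]
  refine (Finset.sum_le_sum fun v hv => ?_).trans (Finset.sum_le_sum_of_subset
    (Finset.erase_subset_erase _ (Finset.filter_subset _ _)))
  rw [Finset.mem_erase, Finset.mem_filter] at hv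
  rw [mu_eq h l (exists_ne hK hσ hq) (exists_N_eq hK hσ) i hv.1, hv.2.2]
  exact hr

/-- non-singular weights -/
theorem le_of_nonsing (i : Fin m) {c : fx σ} (hc : c ≠ 0) {r : ℕ} (hr : r ≤ mu R l (cc i c)) :
    r * cnt σ m c ≤ finrank ℂ W := by
  classical
  rw [← sum_mu hK hσ hq h hl]
  have hcard : cnt σ m c = (Finset.univ.filter fun v : VV (Fin m) σ => Q v = c).card := by
    rw [Finset.card_filter]
    rfl
  rw [hcard, mul_comm, ← smul_eq_mul, ← Finset.sum_const]
  refine (Finset.sum_le_sum fun v hv => ?_).trans (Finset.sum_le_sum_of_subset (Finset.filter_subset _ _))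
  rw [Finset.mem_filter] at hv
  have hv0 : v ≠ 0 := by
    rintro rfl
    apply hc
    rw [← hv.2]
    simp [Q]
  rw [mu_eq h l (exists_ne hK hσ hq) (exists_N_eq hK hσ) i hv0, hv.2]
  exact hr

/-- if there is a non-zero weight then some `mu R l (cc i c)` is non-zero -/
theorem exists_cc (i : Fin m) {a : VV (Fin m) σ} (ha : R a ≠ 1) : ∃ c : fx σ, mu R l (cc i c) ≠ 0 := by
  obtain ⟨χ, h1, h2⟩ := exists_wt h.act ha
  obtain ⟨v, rfl⟩ := (chr_bijective (exists_ne hK hσ hq) hl).2 χ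
  have hv : v ≠ 0 := by
    rintro rfl
    rw [chr_zero, AddChar.one_apply] at h2
    exact h2 rfl
  refine ⟨Q v, ?_⟩
  rw [← mu_eq h l (exists_ne hK hσ hq) (exists_N_eq hK hσ) i hv, mu]
  rwa [Ne, Submodule.finrank_eq_zero]

end Mod2

end Cfsg.Agent.H121.Orth
end

-- part: H121/Sub
section
/-!
# Restriction of representations to invariant subspaces; Heisenberg type arguments
-/

set_option autoImplicit false
set_option linter.unusedSectionVars false

namespace Cfsg.Agent.H121.Sub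

open Module Cfsg.Agent.H121.Wt Cfsg.Agent.H121.Chr

variable {G : Type*} [Group G] {V : Type*} [AddCommGroup V] [Module ℂ V] (ρ : Representation ℂ G V)

/-- the stabilizer of a subspace -/
def stab (W : Submodule ℂ V) : Subgroup G where
  carrier := {g | ∀ v ∈ W, ρ g v ∈ W ∧ ρ g⁻¹ v ∈ W}
  mul_mem' := by
    intro a b ha hb v hv
    refine ⟨?_, ?_⟩
    · rw [map_mul, Module.End.mul_apply]
      exact (ha _ (hb v hv).1).1
    · rw [mul_inv_rev, map_mul, Module.End.mul_apply]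
      exact (hb _ (ha v hv).2).2
  one_mem' := by
    intro v hv
    rw [inv_one, map_one, Module.End.one_apply]
    exact ⟨hv, hv⟩
  inv_mem' := by
    intro a ha v hv
    rw [inv_inv]
    exact (ha v hv).symm

/-- the restriction -/
def sub (W : Submodule ℂ V) : Representation ℂ (stab ρ W) W where
  toFun g := (ρ (g : G)).restrict fun v hv => (g.2 v hv).1
  map_one' := by
    ext v
    simp
  map_mul' a b := by
    ext v
    simp

@[simp] theorem coe_sub (W : Submodule ℂ V) (g : stab ρ W) (v : W) : ((sub ρ W g v : W) : V) = ρ (g : G) v := rfl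

section Wt

variable {A : Type*} [AddCommGroup A]

/-- normalising a parametrised family -/
def Nor (x : A → G) (g : G) : Prop := ∃ f : A → A, Function.Bijective f ∧ ∀ a, g * x a = x (f a) * g

theorem mem_stab_wt {x : A → G} {g : G} {f : A → A} (hg : ∀ a, g * x a = x (f a) * g)
    (hf : Function.Bijective f) {χ : AddChar A ℂ} (hχ : ∀ a, χ (f a) = χ a) :
    g ∈ stab ρ (wt (fun a => ρ (x a)) χ) := by
  intro v hv
  refine ⟨map_wt ρ hg hf.2 hχ hv, ?_⟩
  obtain ⟨f', hl, hr⟩ := Function.bijective_iff_has_inverse.mp hf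
  refine map_wt ρ (g := g⁻¹) (f := f') ?_ hl.surjective ?_ hv
  · intro a
    have h1 := hg (f' a)
    rw [hr a] at h1
    rw [inv_mul_eq_iff_eq_mul, ← mul_assoc, h1, mul_assoc, mul_inv_cancel, mul_one]
  · intro a
    rw [← hχ, hr a]

theorem mem_stab_one {x : A → G} {g : G} (hg : Nor x g) : g ∈ stab ρ (wt (fun a => ρ (x a)) 1) := by
  obtain ⟨f, hf, h⟩ := hg
  exact mem_stab_wt ρ h hf fun a => by rw [AddChar.one_apply, AddChar.one_apply]

end Wt

section Heis

variable {A : Type*} [AddCommGroup A] [Fintype A] {W : Type*} [AddCommGroup W] [Module ℂ W] [FiniteDimensional ℂ W]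

/-- if all characters are conjugate then they have the same multiplicity -/
theorem heis {R : A → Module.End ℂ W} (h : IsAct R)
    (hS : ∀ χ : AddChar A ℂ, ∃ S S' : Module.End ℂ W, S' * S = 1 ∧ ∀ a, S * R a = χ a • (R a * S)) :
    finrank ℂ W = Fintype.card A * finrank ℂ (wt R 1) := by
  have key : ∀ β χ : AddChar A ℂ, finrank ℂ (wt R β) ≤ finrank ℂ (wt R (β * χ⁻¹)) := by
    intro β χ
    obtain ⟨S, S', h1, h2⟩ := hS χ
    refine finrank_wt_le h1 fun v hv a => ?_
    have h3 : S (R a v) = χ a • R a (S v) := by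
      have := congrArg (fun T : Module.End ℂ W => T v) (h2 a)
      exact this
    rw [hv a, map_smul] at h3
    have h4 : χ a ≠ 0 := ne_zero' χ a
    rw [AddChar.mul_apply, AddChar.inv_apply', mul_comm, mul_smul, h3, smul_smul, inv_mul_cancel₀ h4, one_smul]
  have hall : ∀ β : AddChar A ℂ, finrank ℂ (wt R β) = finrank ℂ (wt R 1) := by
    intro β
    apply le_antisymm
    · have := key β β
      rwa [mul_inv_cancel] at this
    · have := key 1 β⁻¹
      rwa [one_mul, inv_inv] at this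
  rw [← sum_finrank h, Finset.sum_congr rfl fun β _ => hall β, Finset.sum_const, Finset.card_univ, card_addChar,
    smul_eq_mul]

theorem pr_mul_act {R : A → Module.End ℂ W} (h : IsAct R) (χ : AddChar A ℂ) (a : A) :
    pr R χ * R a = χ a • pr R χ := by
  classical
  rw [act_eq_sum h, Finset.mul_sum, Finset.sum_eq_single χ]
  · rw [mul_smul_comm, pr_mul_self h]
  · intro χ' _ hne
    rw [mul_smul_comm, pr_mul_ne h hne.symm, smul_zero]
  · intro hn
    exact absurd (Finset.mem_univ _) hn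

/-- a vector fixed by `R a` has no component at `χ` with `χ a ≠ 1` -/
theorem pr_eq_zero_of {R : A → Module.End ℂ W} (h : IsAct R) {χ : AddChar A ℂ} {a : A} {w : W} (hw : R a w = w)
    (hχ : χ a ≠ 1) : pr R χ w = 0 := by
  have h1 : (pr R χ * R a) w = χ a • pr R χ w := by rw [pr_mul_act h]; rfl
  rw [Module.End.mul_apply, hw] at h1
  have h2 : (1 - χ a) • pr R χ w = 0 := by rw [sub_smul, one_smul, ← h1, sub_self]
  exact (smul_eq_zero.1 h2).resolve_left (sub_ne_zero.2 (Ne.symm hχ))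

/-- a vector without components at the non-trivial characters is fixed -/
theorem mem_wt_one {R : A → Module.End ℂ W} (h : IsAct R) {w : W} (hw : ∀ χ : AddChar A ℂ, χ ≠ 1 → pr R χ w = 0) :
    w ∈ wt R 1 := by
  classical
  have h1 : w = ∑ χ : AddChar A ℂ, pr R χ w := by
    have := congrArg (fun T : Module.End ℂ W => T w) (sum_pr h)
    simp only [LinearMap.sum_apply, Module.End.one_apply] at this
    exact this.symm
  rw [Finset.sum_eq_single 1 (fun χ _ hχ => hw χ hχ) (fun hn => absurd (Finset.mem_univ _) hn)] at h1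
  rw [h1]
  exact pr_mem h 1 w

end Heis

/-- commutators fix common eigenvectors -/
theorem comm_fix {g g' : G} {c c' : ℂ} {v : V} (h : ρ g v = c • v) (h' : ρ g' v = c' • v) :
    ρ (g * g' * g⁻¹ * g'⁻¹) v = v := by
  by_cases hv : v = 0
  · rw [hv, map_zero]
  have hc : c ≠ 0 := by
    rintro rfl
    rw [zero_smul] at h
    apply hv
    have : ρ g⁻¹ (ρ g v) = v := by rw [← Module.End.mul_apply, ← map_mul, inv_mul_cancel, map_one, Module.End.one_apply]
    rw [← this, h, map_zero]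
  have hc' : c' ≠ 0 := by
    rintro rfl
    rw [zero_smul] at h'
    apply hv
    have : ρ g'⁻¹ (ρ g' v) = v := by
      rw [← Module.End.mul_apply, ← map_mul, inv_mul_cancel, map_one, Module.End.one_apply]
    rw [← this, h', map_zero]
  have i1 : ρ g⁻¹ v = c⁻¹ • v := by
    have : ρ g⁻¹ (ρ g v) = v := by rw [← Module.End.mul_apply, ← map_mul, inv_mul_cancel, map_one, Module.End.one_apply]
    rw [h, map_smul] at this
    rw [← this, smul_smul, inv_mul_cancel₀ hc, one_smul, this]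
  have i2 : ρ g'⁻¹ v = c'⁻¹ • v := by
    have : ρ g'⁻¹ (ρ g' v) = v := by
      rw [← Module.End.mul_apply, ← map_mul, inv_mul_cancel, map_one, Module.End.one_apply]
    rw [h', map_smul] at this
    rw [← this, smul_smul, inv_mul_cancel₀ hc', one_smul, this]
  rw [map_mul, map_mul, map_mul, Module.End.mul_apply, Module.End.mul_apply, Module.End.mul_apply, i2]
  simp only [map_smul, i1, h', h, smul_smul]
  have : c'⁻¹ * c⁻¹ * c' * c = 1 := by field_simp
  rw [this, one_smul]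

end Cfsg.Agent.H121.Sub
end

-- part: H121/F4Aux
section
/-!
# Lower bounds for the degrees of complex representations of `²E₆(q)`: the abstract situation

`F4Aux`: three abelian groups `xA`, `xB`, `xC` which are orthogonal modules of minus type of dimensions 8, 6, 4, and
some more root elements.
-/

set_option autoImplicit false
set_option linter.unusedSectionVars false

namespace Cfsg.Agent.H121.F4

open Module
open Cfsg.Agent.H121.HexMin (fx mem_fx coe_fx)
open Cfsg.Agent.H121.Quad Cfsg.Agent.H121.Wt Cfsg.Agent.H121.Chr Cfsg.Agent.H121.Orth Cfsg.Agent.H121.Sub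

variable {K : Type*} [Field K] {σ : K ≃+* K} [Quad.Inv σ] {G : Type*} [Group G]

/-- the vector with `x i = t` -/
def vx {m : ℕ} (i : Fin m) (t : fx σ) : VV (Fin m) σ := (Pi.single i (t, 0), 0)

/-- the vector with `y i = t` -/
def vy {m : ℕ} (i : Fin m) (t : fx σ) : VV (Fin m) σ := (Pi.single i (0, t), 0)

/-- the relations -/
structure F4Aux (xA : VV (Fin 3) σ → G) (xB : VV (Fin 2) σ → G) (xC : VV (Fin 1) σ → G)
    (e1 e2 h1 h2 h3 h4 s2 s3 s4 : K → G) (w : G) : Prop where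
  addA : ∀ a b, xA (a + b) = xA a * xA b
  addB : ∀ a b, xB (a + b) = xB a * xB b
  addC : ∀ a b, xC (a + b) = xC a * xC b
  addE1 : ∀ a b, e1 (a + b) = e1 a * e1 b
  addE2 : ∀ a b, e2 (a + b) = e2 a * e2 b
  -- level A
  pA : ∀ i u, ∃ g, ∀ a, g * xA a = xA (rp i u a) * g
  mA : ∀ i u, ∃ g, ∀ a, g * xA a = xA (rm i u a) * g
  -- level B
  nB : ∀ b, Nor xA (xB b)
  pB : ∀ i u, ∃ g, Nor xA g ∧ ∀ b, g * xB b = xB (rp i u b) * g
  mB : ∀ i u, ∃ g, Nor xA g ∧ ∀ b, g * xB b = xB (rm i u b) * g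
  -- level C
  nC : ∀ c, Nor xA (xC c) ∧ Nor xB (xC c)
  pC : ∀ i u, ∃ g, Nor xA g ∧ Nor xB g ∧ ∀ c, g * xC c = xC (rp i u c) * g
  mC : ∀ i u, ∃ g, Nor xA g ∧ Nor xB g ∧ ∀ c, g * xC c = xC (rm i u c) * g
  -- the Heisenberg pairs
  eA1 : ∀ s a, e1 s * xA a = xA a * e1 s
  eA2 : ∀ s a, e2 s * xA a = xA a * e2 s
  e12 : ∀ s t, e1 s * e2 t = e2 t * e1 s
  f1 : ∀ z, ∃ g, (∀ a, g * xA a = xA a * g) ∧ (∀ s, g * e1 s = e1 s * xA (vy 0 (T σ (z * σ s))) * g) ∧
    ∀ s, g * e2 s = e2 s * g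
  f2 : ∀ z, ∃ g, (∀ a, g * xA a = xA a * g) ∧ (∀ s, g * e2 s = e2 s * xA (vy 0 (T σ (z * σ s))) * g) ∧
    ∀ s, g * e1 s = e1 s * g
  -- the short root elements `2, 3, 4`
  s2A : ∀ u, ∃ u', ∀ a, s2 u * xA a = xA (rp 0 u' a) * s2 u
  s3A : ∀ u, ∃ u', ∀ a, s3 u * xA a = xA (rp 1 u' a) * s3 u
  s4A : ∀ u, ∃ u', ∀ a, s4 u * xA a = xA (rp 2 u' a) * s4 u
  s3B : ∀ u, ∃ u', ∀ b, s3 u * xB b = xB (rp 0 u' b) * s3 u
  s4B : ∀ u, ∃ u', ∀ b, s4 u * xB b = xB (rp 1 u' b) * s4 u
  s2e1 : ∀ u s, ∃ z, (s2 u)⁻¹ * e1 s * s2 u = e1 s * h1 z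
  s2e2 : ∀ u s, ∃ z, (s2 u)⁻¹ * e2 s * s2 u = e2 s * h2 z
  s3e1 : ∀ u s, (s3 u)⁻¹ * e1 s * s3 u = e1 s
  s3e2 : ∀ u s, (s3 u)⁻¹ * e2 s * s3 u = e2 s
  s4e1 : ∀ u s, (s4 u)⁻¹ * e1 s * s4 u = e1 s
  s4e2 : ∀ u s, ∃ z, (s4 u)⁻¹ * e2 s * s4 u = e2 s * e1 z
  h3A : ∀ z a, h3 z * xA a = xA a * h3 z
  h4A : ∀ z a, h4 z * xA a = xA a * h4 z
  h3e1 : ∀ z s, ∃ a : VV (Fin 3) σ, (a.1 0).2 = 0 ∧ (h3 z)⁻¹ * e1 s * h3 z = e1 s * xA a
  h3e2 : ∀ z s, ∃ a : VV (Fin 3) σ, (a.1 0).2 = 0 ∧ (h3 z)⁻¹ * e2 s * h3 z = e2 s * xA a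
  h4e1 : ∀ z s, ∃ a : VV (Fin 3) σ, (a.1 0).2 = 0 ∧ (h4 z)⁻¹ * e1 s * h4 z = e1 s * xA a
  h4e2 : ∀ z s, ∃ a : VV (Fin 3) σ, (a.1 0).2 = 0 ∧ (h4 z)⁻¹ * e2 s * h4 z = e2 s * xA a
  s3h4 : ∀ z, ∃ u v, s3 u * h4 v * (s3 u)⁻¹ * (h4 v)⁻¹ = h1 z
  s3h3 : ∀ z, ∃ u v, s3 u * h3 v * (s3 u)⁻¹ * (h3 v)⁻¹ = h2 z
  c23 : ∀ t, ∃ u v, s2 u * s3 v * (s2 u)⁻¹ * (s3 v)⁻¹ = xB (vx 0 t)
  c24 : ∀ t, ∃ u v, s2 u * s4 v * (s2 u)⁻¹ * (s4 v)⁻¹ = xB (vx 1 t)
  c34 : ∀ t, ∃ u v, s3 u * s4 v * (s3 u)⁻¹ * (s4 v)⁻¹ = xC (vx 0 t)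
  d34 : ∀ t, ∃ g b, Nor xA g ∧ xC (vx 0 t) = g * xB b * g⁻¹
  -- the Weyl element
  wx : ∀ (j : Fin 3) t, ∃ t', w⁻¹ * xA (vx j t) * w = xA (vx j t')
  wy0 : ∀ t, ∃ t', w⁻¹ * xA (vy 0 t) * w = xC (vx 0 t')
  wy1 : ∀ t, ∃ t', w⁻¹ * xA (vy 1 t) * w = xB (vx 1 t')
  wy2 : ∀ t, ∃ t', w⁻¹ * xA (vy 2 t) * w = xB (vx 0 t')
  w23 : ∀ t, ∃ t', w⁻¹ * xB (vx 0 t) * w = xA (vy 2 t')
  w24 : ∀ t, ∃ t', w⁻¹ * xB (vx 1 t) * w = xA (vy 1 t')
  w34 : ∃ c : fx σ, c ≠ 0 ∧ ∀ t, w⁻¹ * xC (vx 0 t) * w = xA (vy 0 (c * t))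

variable {xA : VV (Fin 3) σ → G} {xB : VV (Fin 2) σ → G} {xC : VV (Fin 1) σ → G}
  {e1 e2 h1 h2 h3 h4 s2 s3 s4 : K → G} {w : G}

theorem chr_vy {m : ℕ} (l : AddChar (fx σ) ℂ) (i : Fin m) (v : VV (Fin m) σ) (t : fx σ) :
    chr l v (vy i t) = l ((v.1 i).1 * t) := by rw [chr_apply, vy, B_x]

theorem chr_vx {m : ℕ} (l : AddChar (fx σ) ℂ) (i : Fin m) (v : VV (Fin m) σ) (t : fx σ) :
    chr l v (vx i t) = l ((v.1 i).2 * t) := by rw [chr_apply, vx, B_y]

theorem rp_y0 (i : Fin 3) (u : K) (a : VV (Fin 3) σ) (j : Fin 3) : ((rp i u a).1 j).2 = (a.1 j).2 := by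
  by_cases h : j = i
  · subst h; simp [rp]
  · simp [rp, Function.update_of_ne h]

/-- `chr l (cc 0 0) a` depends on `y 0` only -/
theorem chr_cc (l : AddChar (fx σ) ℂ) (a : VV (Fin 3) σ) : chr l (cc 0 0) a = l (a.1 0).2 := by
  have h : B a (cc 0 0) = (a.1 0).2 * 1 := B_y 0 a 1
  rw [chr_apply, B_comm, h, mul_one]

theorem chr_cc_vy (l : AddChar (fx σ) ℂ) (c t : fx σ) : chr l (cc (0 : Fin 3) c) (vy 0 t) = l t := by
  rw [chr_vy, cc]
  simp

/-! ### Characters of `K` -/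

/-- the character `s ↦ l (T (z s))` -/
def kchr (l : AddChar (fx σ) ℂ) (z : K) : AddChar K ℂ where
  toFun s := l (T σ (z * σ s))
  map_zero_eq_one' := by rw [map_zero, mul_zero, T_zero, AddChar.map_zero_eq_one]
  map_add_eq_mul' a b := by rw [map_add, mul_add, T_add, AddChar.map_add_eq_mul]

theorem kchr_apply (l : AddChar (fx σ) ℂ) (z s : K) : kchr l z s = l (T σ (z * σ s)) := rfl

theorem kchr_bijective [Fintype K] (hne : ∃ a : K, σ a ≠ a) {l : AddChar (fx σ) ℂ} (hl : l ≠ 1) :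
    Function.Bijective (kchr l : K → AddChar K ℂ) := by
  refine (Fintype.bijective_iff_injective_and_card _).2 ⟨?_, (card_addChar _).symm⟩
  intro z z' h
  by_contra hzz
  apply hl
  apply DFunLike.ext
  intro t
  obtain ⟨u, hu⟩ := exists_T_mul_eq hne (sub_ne_zero.2 hzz) t
  have h1 : kchr l z u = kchr l z' u := by rw [h]
  rw [kchr_apply, kchr_apply] at h1
  rw [← hu, sub_mul, T_sub, sub_eq_add_neg, AddChar.map_add_eq_mul, AddChar.map_neg_eq_inv, h1, AddChar.one_apply]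
  exact mul_inv_cancel₀ (ne_zero' _ _)

/-! ### Level A -/

section LevelA

variable [Fintype K] {V : Type*} [AddCommGroup V] [Module ℂ V] [FiniteDimensional ℂ V] (ρ : Representation ℂ G V)
  (D : F4Aux xA xB xC e1 e2 h1 h2 h3 h4 s2 s3 s4 w)

include D

theorem invA : Inva fun a => ρ (xA a) where
  act := isAct_of ρ D.addA
  p i u := by
    obtain ⟨g, hg⟩ := D.pA i u
    exact ⟨ρ g, ρ g⁻¹, by rw [← map_mul, inv_mul_cancel, map_one], fun a => by rw [← map_mul, hg, map_mul]⟩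
  m i u := by
    obtain ⟨g, hg⟩ := D.mA i u
    exact ⟨ρ g, ρ g⁻¹, by rw [← map_mul, inv_mul_cancel, map_one], fun a => by rw [← map_mul, hg, map_mul]⟩

/-- elements commuting with `xA` stabilise the weight spaces -/
theorem mem_stab_of_comm {g : G} (hg : ∀ a, g * xA a = xA a * g) (χ : AddChar (VV (Fin 3) σ) ℂ) :
    g ∈ stab ρ (wt (fun a => ρ (xA a)) χ) :=
  mem_stab_wt ρ (f := id) hg Function.bijective_id fun _ => rfl

variable (hne : ∃ a : K, σ a ≠ a) {l : AddChar (fx σ) ℂ} (hl : l ≠ 1)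

include hne hl

/-- **The multiplicities are divisible by `|K|²`.** -/
theorem heisA (c : fx σ) : ∃ f : ℕ, mu (fun a => ρ (xA a)) l (cc 0 c) = Fintype.card K ^ 2 * f ∧
    (f = 1 → ∃ m0 : V, m0 ≠ 0 ∧ (∀ a, ρ (xA a) m0 = chr l (cc 0 c) a • m0) ∧ (∀ s, ρ (e1 s) m0 = m0) ∧
      (∀ s, ρ (e2 s) m0 = m0) ∧ ∀ m : V, (∀ a, ρ (xA a) m = chr l (cc 0 c) a • m) → (∀ s, ρ (e1 s) m = m) →
        (∀ s, ρ (e2 s) m = m) → ∃ d : ℂ, m = d • m0) := by
  set χ : AddChar (VV (Fin 3) σ) ℂ := chr l (cc 0 c) with hχ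
  set W := wt (fun a => ρ (xA a)) χ with hW
  have hm : ∀ p : K × K, e1 p.1 * e2 p.2 ∈ stab ρ W := fun p =>
    mul_mem (mem_stab_of_comm ρ D (D.eA1 p.1) χ) (mem_stab_of_comm ρ D (D.eA2 p.2) χ)
  let x : K × K → stab ρ W := fun p => ⟨e1 p.1 * e2 p.2, hm p⟩
  have hx : ∀ a b, x (a + b) = x a * x b := by
    intro a b
    apply Subtype.ext
    show e1 (a.1 + b.1) * e2 (a.2 + b.2) = e1 a.1 * e2 a.2 * (e1 b.1 * e2 b.2)
    rw [D.addE1, D.addE2]
    calc e1 a.1 * e1 b.1 * (e2 a.2 * e2 b.2) = e1 a.1 * (e1 b.1 * e2 a.2) * e2 b.2 := by group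
      _ = e1 a.1 * (e2 a.2 * e1 b.1) * e2 b.2 := by rw [D.e12]
      _ = _ := by group
  have hact : IsAct fun p => sub ρ W (x p) := isAct_of (sub ρ W) hx
  have hyA : ∀ (t : fx σ) (v : V), v ∈ W → ρ (xA (vy 0 t)) v = l t • v := by
    intro t v hv
    rw [hv (vy 0 t), hχ, chr_cc_vy]
  -- the conjugating elements
  have key1 : ∀ z : K, ∃ S S' : End ℂ W, S' * S = 1 ∧
      ∀ p : K × K, S * sub ρ W (x p) = kchr l z p.1 • (sub ρ W (x p) * S) := by
    intro z
    obtain ⟨g, g1, g2, g3⟩ := D.f1 z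
    have hg := mem_stab_of_comm ρ D g1 χ
    refine ⟨sub ρ W ⟨g, hg⟩, sub ρ W ⟨g, hg⟩⁻¹, by rw [← map_mul, inv_mul_cancel, map_one], fun p => ?_⟩
    ext v
    have hv1 : ρ g v ∈ W := (hg v v.2).1
    show ρ g (ρ (e1 p.1 * e2 p.2) v) = kchr l z p.1 • (ρ (e1 p.1 * e2 p.2) (ρ g v))
    have e : g * (e1 p.1 * e2 p.2) = e1 p.1 * e2 p.2 * xA (vy 0 (T σ (z * σ p.1))) * g := by
      calc g * (e1 p.1 * e2 p.2) = g * e1 p.1 * e2 p.2 := by group
        _ = e1 p.1 * xA (vy 0 (T σ (z * σ p.1))) * (g * e2 p.2) := by rw [g2]; group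
        _ = e1 p.1 * (xA (vy 0 (T σ (z * σ p.1))) * e2 p.2) * g := by rw [g3]; group
        _ = e1 p.1 * (e2 p.2 * xA (vy 0 (T σ (z * σ p.1)))) * g := by rw [← D.eA2]
        _ = _ := by group
    rw [← Module.End.mul_apply, ← map_mul, e, map_mul, map_mul, Module.End.mul_apply, Module.End.mul_apply,
      hyA _ _ hv1, map_smul, kchr_apply]
  have key2 : ∀ z : K, ∃ S S' : End ℂ W, S' * S = 1 ∧
      ∀ p : K × K, S * sub ρ W (x p) = kchr l z p.2 • (sub ρ W (x p) * S) := by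
    intro z
    obtain ⟨g, g1, g2, g3⟩ := D.f2 z
    have hg := mem_stab_of_comm ρ D g1 χ
    refine ⟨sub ρ W ⟨g, hg⟩, sub ρ W ⟨g, hg⟩⁻¹, by rw [← map_mul, inv_mul_cancel, map_one], fun p => ?_⟩
    ext v
    have hv1 : ρ g v ∈ W := (hg v v.2).1
    show ρ g (ρ (e1 p.1 * e2 p.2) v) = kchr l z p.2 • (ρ (e1 p.1 * e2 p.2) (ρ g v))
    have e : g * (e1 p.1 * e2 p.2) = e1 p.1 * e2 p.2 * xA (vy 0 (T σ (z * σ p.2))) * g := by
      calc g * (e1 p.1 * e2 p.2) = g * e1 p.1 * e2 p.2 := by group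
        _ = e1 p.1 * (g * e2 p.2) := by rw [g3]; group
        _ = _ := by rw [g2]; group
    rw [← Module.End.mul_apply, ← map_mul, e, map_mul, map_mul, Module.End.mul_apply, Module.End.mul_apply,
      hyA _ _ hv1, map_smul, kchr_apply]
  have hall := heis hact (by
    intro ψ
    obtain ⟨z, hz⟩ := (kchr_bijective hne hl).2 (fc ψ)
    obtain ⟨z', hz'⟩ := (kchr_bijective hne hl).2 (sc ψ)
    obtain ⟨S, S', a1, a2⟩ := key1 z
    obtain ⟨R, R', b1, b2⟩ := key2 z'
    refine ⟨S * R, R' * S', ?_, fun p => ?_⟩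
    · calc R' * S' * (S * R) = R' * (S' * S) * R := by simp only [mul_assoc]
        _ = 1 := by rw [a1, mul_one, b1]
    · have hψ : ψ p = kchr l z p.1 * kchr l z' p.2 := by
        rw [hz, hz', ← pc_apply, pc_fc_sc]
      calc S * R * sub ρ W (x p) = S * (R * sub ρ W (x p)) := mul_assoc _ _ _
        _ = kchr l z' p.2 • (S * sub ρ W (x p) * R) := by rw [b2, mul_smul_comm, mul_assoc]
        _ = kchr l z' p.2 • (kchr l z p.1 • (sub ρ W (x p) * S * R)) := by rw [a2, smul_mul_assoc]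
        _ = ψ p • (sub ρ W (x p) * (S * R)) := by rw [smul_smul, hψ, mul_comm, mul_assoc])
  refine ⟨finrank ℂ (wt (fun p => sub ρ W (x p)) 1), ?_, ?_⟩
  · rw [mu, hall, Fintype.card_prod]; ring
  · intro h1
    obtain ⟨v, hv0, hv⟩ := finrank_eq_one_iff'.1 h1
    have hfix : ∀ p : K × K, ρ (e1 p.1 * e2 p.2) (v : W) = (v : W) := by
      intro p
      have := v.2 p
      rw [AddChar.one_apply, one_smul] at this
      exact congrArg Subtype.val this
    have he10 : e1 0 = 1 := by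
      have := D.addE1 0 0
      rw [add_zero] at this
      exact (mul_eq_left.1 this.symm)
    have he20 : e2 0 = 1 := by
      have := D.addE2 0 0
      rw [add_zero] at this
      exact (mul_eq_left.1 this.symm)
    refine ⟨((v : W) : V), ?_, v.1.2, ?_, ?_, ?_⟩
    · intro h
      exact hv0 (Subtype.ext (Subtype.ext h))
    · intro s
      have := hfix (s, 0)
      simpa [he20] using this
    · intro s
      have := hfix (0, s)
      simpa [he10] using this
    · intro m hm1 hm2 hm3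
      have hmW : m ∈ W := hm1
      have hm' : (⟨m, hmW⟩ : W) ∈ wt (fun p => sub ρ W (x p)) 1 := by
        intro p
        rw [AddChar.one_apply, one_smul]
        apply Subtype.ext
        show ρ (e1 p.1 * e2 p.2) m = m
        rw [map_mul, Module.End.mul_apply, hm3, hm2]
      obtain ⟨d, hd⟩ := hv ⟨⟨m, hmW⟩, hm'⟩
      exact ⟨d, (congrArg (fun y : wt (fun p => sub ρ W (x p)) 1 => ((y : W) : V)) hd).symm⟩

end LevelA

end Cfsg.Agent.H121.F4
end
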